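import Mathlib
import Cfsg.Prelude.Def_Classification2
import Cfsg.Agent.FastGrp
import Cfsg.Agent.Prune
set_option linter.all false

section
prune_inst 0x7f00000000000000000000000000000000000000000000000000000000000000000000000000000000000000000000000000000000000000000000000000000000000000000000000000000000000000003fffffffffffffffffffffffffffbeffbdffffffff

-- part: H146/KW/Tools
section
set_option linter.all false
open scoped Cfsg.Agent.FastGrp

/-!
# Tools for the Kegel-Wielandt condition (S4243)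

`PSub p H`: for every Sylow `p`-subgroup `P` of `G`, `H ⊓ P` is a Sylow `p`-subgroup of `H`.
-/

set_option autoImplicit false
set_option linter.unusedSectionVars false

open Subgroup

namespace Cfsg.Agent.H146.KW

universe u v

section Defs

variable {G : Type u} [Group G]

/-- `H ⊓ P` is a Sylow `p`-subgroup of `H` for every Sylow `p`-subgroup `P` of `G`
(for finite `G` and prime `p`): the index `|H : H ∩ P|` is prime to `p`. -/
def PSub (p : ℕ) (H : Subgroup G) : Prop :=
  ∀ P : Sylow p G, ¬ p ∣ (P : Subgroup G).relIndex H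

end Defs

section Basic

variable {G : Type u} [Group G] [Finite G] {p : ℕ} [hp : Fact p.Prime]

theorem relIndex_pos' (A B : Subgroup G) : 0 < A.relIndex B :=
  Nat.pos_of_ne_zero (Subgroup.index_ne_zero_of_finite (H := A.subgroupOf B))

theorem PSub.not_dvd {H : Subgroup G} (h : PSub p H) (P : Sylow p G) :
    ¬ p ∣ (P : Subgroup G).relIndex H := h P

/-- `H ∩ P` as a Sylow subgroup of `H`. -/
noncomputable def PSub.syl {H : Subgroup G} (h : PSub p H) (P : Sylow p G) : Sylow p H :=
  IsPGroup.toSylow (P := (P : Subgroup G).subgroupOf H)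
    (P.isPGroup'.comap_subtype) (h P)

@[simp] theorem PSub.coe_syl {H : Subgroup G} (h : PSub p H) (P : Sylow p G) :
    ((h.syl P : Sylow p H) : Subgroup H) = (P : Subgroup G).subgroupOf H := rfl

theorem PSub.card_inf {H : Subgroup G} (h : PSub p H) (P : Sylow p G) :
    Nat.card (H ⊓ P : Subgroup G) = p ^ (Nat.card H).factorization p := by
  have h1 := (h.syl P).card_eq_multiplicity
  rw [← h1]
  refine Nat.card_congr ?_
  have : ((h.syl P : Sylow p H) : Subgroup H) = (H ⊓ (P : Subgroup G)).subgroupOf H := by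
    rw [h.coe_syl, inf_comm, Subgroup.inf_subgroupOf_right]
  exact ((Subgroup.subgroupOfEquivOfLe (inf_le_left : H ⊓ (P : Subgroup G) ≤ H)).symm.toEquiv).trans
    (Equiv.setCongr (by rw [this]))

/-- The hypothesis of S4243 gives the Sylow condition. -/
theorem psub_of_hyp {H : Subgroup G}
    (h : ∀ K : Subgroup G, (H ⊓ K).relIndex K ∣ H.index) : PSub p H := by
  intro P hd
  have h1 := h P
  rw [Subgroup.inf_relIndex_right] at h1
  -- |P : H ∩ P| * |G : P| = |H : H ∩ P| * |G : H|
  have h2 : H.relIndex P * (P : Subgroup G).index = (P : Subgroup G).relIndex H * H.index := by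
    have e1 : H.relIndex P * (P : Subgroup G).relIndex ⊤ = (H ⊓ (P : Subgroup G)).relIndex ⊤ := by
      have := Subgroup.relIndex_inf_mul_relIndex H (P : Subgroup G) (⊤ : Subgroup G)
      simpa only [_root_.Subgroup.relIndex_top_right, _root_.le_top, _root_.inf_of_le_left] using this
    have e2 : (P : Subgroup G).relIndex H * H.relIndex ⊤ = ((P : Subgroup G) ⊓ H).relIndex ⊤ := by
      have := Subgroup.relIndex_inf_mul_relIndex (P : Subgroup G) H (⊤ : Subgroup G)
      simpa only [_root_.Subgroup.relIndex_top_right, _root_.le_top, _root_.inf_of_le_left] using this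
    rw [Subgroup.relIndex_top_right] at e1 e2
    rw [e1, e2, inf_comm]
  have hP : ¬ p ∣ (P : Subgroup G).index := P.not_dvd_index
  have hne : H.index ≠ 0 := Subgroup.index_ne_zero_of_finite
  obtain ⟨m, hm⟩ := h1
  have h3 : (P : Subgroup G).index = (P : Subgroup G).relIndex H * m := by
    apply Nat.eq_of_mul_eq_mul_left (relIndex_pos' H P)
    rw [h2, hm]; ring
  exact hP (h3 ▸ dvd_mul_of_dvd_left hd m)

theorem psub_top : PSub p (⊤ : Subgroup G) := by
  intro P
  rw [Subgroup.relIndex_top_right]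
  exact P.not_dvd_index

/-- Relative index of subgroups of a subgroup. -/
theorem relIndex_subgroupOf_subgroupOf {A B M : Subgroup G} (hB : B ≤ M) :
    (A.subgroupOf M).relIndex (B.subgroupOf M) = A.relIndex B := by
  exact Subgroup.relIndex_subgroupOf hB

/-- Every Sylow subgroup of a subgroup is cut out by a Sylow subgroup of the group. -/
theorem exists_sylow_subgroupOf_eq {M : Subgroup G} (P : Sylow p M) :
    ∃ R : Sylow p G, (R : Subgroup G).subgroupOf M = P :=
  P.exists_comap_subtype_eq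

/-- Passing to an intermediate group. -/
theorem PSub.subgroupOf {H M : Subgroup G} (h : PSub p H) (hM : H ≤ M) :
    PSub p (H.subgroupOf M) := by
  intro P
  obtain ⟨R, hR⟩ := exists_sylow_subgroupOf_eq P
  rw [← hR, relIndex_subgroupOf_subgroupOf hM]
  exact h R

/-- Normal subgroups of `H` inherit the condition. -/
theorem PSub.of_normal {H N : Subgroup G} (h : PSub p H) (hN : N ≤ H)
    (hn : (N.subgroupOf H).Normal) : PSub p N := by
  intro P hd
  have h1 : ((P : Subgroup G).subgroupOf H).relIndex (N.subgroupOf H) = (P : Subgroup G).relIndex N :=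
    relIndex_subgroupOf_subgroupOf hN
  rw [← h1] at hd
  -- |N : N ∩ S| = |S N : S| divides |H : S|
  have h2 : ((P : Subgroup G).subgroupOf H).relIndex (N.subgroupOf H) ∣
      ((P : Subgroup G).subgroupOf H).index := by
    have h3 : ((P : Subgroup G).subgroupOf H).relIndex (N.subgroupOf H)
        = ((P : Subgroup G).subgroupOf H).relIndex ((P : Subgroup G).subgroupOf H ⊔ N.subgroupOf H) := by
      have hS : 0 < Nat.card ((P : Subgroup G).subgroupOf H) := Nat.card_pos
      have e1 := Subgroup.relIndex_mul_relIndex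
        ((P : Subgroup G).subgroupOf H ⊓ N.subgroupOf H) (N.subgroupOf H)
        ((P : Subgroup G).subgroupOf H ⊔ N.subgroupOf H) inf_le_right le_sup_right
      have e2 := Subgroup.relIndex_mul_relIndex
        ((P : Subgroup G).subgroupOf H ⊓ N.subgroupOf H) ((P : Subgroup G).subgroupOf H)
        ((P : Subgroup G).subgroupOf H ⊔ N.subgroupOf H) inf_le_left le_sup_left
      rw [Subgroup.inf_relIndex_right, Subgroup.relIndex_sup_right] at e1
      rw [Subgroup.inf_relIndex_left] at e2
      apply Nat.eq_of_mul_eq_mul_right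
        (relIndex_pos' (N.subgroupOf H) ((P : Subgroup G).subgroupOf H))
      rw [e1, mul_comm, e2]
    rw [h3]
    exact Subgroup.relIndex_dvd_index_of_le le_sup_left
  exact h P (hd.trans h2)

/-- Intersections with a subgroup of index prime to `p`. -/
theorem PSub.inf_of_not_dvd_index {H M : Subgroup G} (h : PSub p H) (hM : ¬ p ∣ M.index) :
    PSub p ((H ⊓ M).subgroupOf M) := by
  intro P hd
  obtain ⟨R, hR⟩ := exists_sylow_subgroupOf_eq P
  -- the Sylow subgroup `P` of `M` is a Sylow subgroup of `G`, so `R ≤ M`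
  have hRM : (R : Subgroup G) ≤ M := by
    have h1 : Nat.card (P : Subgroup M) = Nat.card (R : Subgroup G) := by
      rw [P.card_eq_multiplicity, R.card_eq_multiplicity]
      congr 1
      rw [← Subgroup.card_mul_index M, Nat.factorization_mul Nat.card_pos.ne'
        Subgroup.index_ne_zero_of_finite, Finsupp.add_apply,
        Nat.factorization_eq_zero_of_not_dvd hM, add_zero]
    have h2 : Nat.card ((R : Subgroup G) ⊓ M : Subgroup G) = Nat.card (R : Subgroup G) := by
      rw [← h1, ← hR]
      have := Nat.card_congr (Subgroup.subgroupOfEquivOfLe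
        (inf_le_right : (R : Subgroup G) ⊓ M ≤ M)).toEquiv
      rw [← this, Subgroup.inf_subgroupOf_right]
    have h3 : (R : Subgroup G) ⊓ M = R := Subgroup.eq_of_le_of_card_ge inf_le_left h2.ge
    exact inf_eq_left.mp h3
  rw [← hR, relIndex_subgroupOf_subgroupOf inf_le_right] at hd
  have h4 : (R : Subgroup G).relIndex (H ⊓ M) * M.relIndex H = (R : Subgroup G).relIndex H := by
    have := Subgroup.relIndex_inf_mul_relIndex (R : Subgroup G) M H
    rw [inf_comm M H] at this
    rw [this, inf_eq_left.mpr hRM]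
  exact h R (h4 ▸ dvd_mul_of_dvd_left hd _)

/-- Intersections with a normal subgroup. -/
theorem PSub.inf_normal {H N : Subgroup G} [N.Normal] (h : PSub p H) : PSub p (H ⊓ N) := by
  refine h.of_normal inf_le_left ?_
  rw [inf_comm, Subgroup.inf_subgroupOf_right]
  infer_instance

theorem PSub.inf_normal_subgroupOf {H N : Subgroup G} [N.Normal] (h : PSub p H) :
    PSub p ((H ⊓ N).subgroupOf N) :=
  (h.inf_normal (N := N)).subgroupOf inf_le_right

/-- `p`-subgroups of index prime to `p`, as Sylow subgroups. -/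
theorem PSub.not_dvd_of_isPGroup {H S : Subgroup G} (h : PSub p H) (hS : IsPGroup p S)
    (hi : ¬ p ∣ S.index) : ¬ p ∣ S.relIndex H := by
  have := h (hS.toSylow hi)
  simpa using this

end Basic

section Hom

variable {G : Type u} [Group G] [Finite G] {G' : Type v} [Group G'] [Finite G']
  {p : ℕ} [hp : Fact p.Prime]

/-- Images under surjective homomorphisms. -/
theorem PSub.map {H : Subgroup G} (h : PSub p H) {f : G →* G'} (hf : Function.Surjective f) :
    PSub p (H.map f) := by
  intro P' hd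
  obtain ⟨P, rfl⟩ := Sylow.mapSurjective_surjective hf p P'
  rw [Sylow.coe_mapSurjective] at hd
  have h1 : ((P : Subgroup G).map f).relIndex (H.map f) ∣ (P : Subgroup G).relIndex H := by
    rw [Subgroup.relIndex_map_map]
    have e1 := Subgroup.relIndex_dvd_of_le_left (H ⊔ f.ker)
      (le_sup_left : (P : Subgroup G) ≤ (P : Subgroup G) ⊔ f.ker)
    have e2 : ((P : Subgroup G) ⊔ f.ker).relIndex (H ⊔ f.ker)
        = ((P : Subgroup G) ⊔ f.ker).relIndex H := by
      have a1 : (P : Subgroup G) ⊔ f.ker = ((P : Subgroup G).map f).comap f :=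
        (Subgroup.comap_map_eq f _).symm
      have a2 : H ⊔ f.ker = (H.map f).comap f := (Subgroup.comap_map_eq f _).symm
      rw [a2, a1, Subgroup.relIndex_comap, Subgroup.relIndex_comap,
        Subgroup.map_comap_eq_self_of_surjective hf]
    rw [e2]
    exact Subgroup.relIndex_dvd_of_le_left H le_sup_left
  exact h P (hd.trans h1)

/-- Preimages under surjective homomorphisms. -/
theorem PSub.comap {H : Subgroup G'} (h : PSub p H) {f : G →* G'} (hf : Function.Surjective f) :
    PSub p (H.comap f) := by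
  intro P hd
  have h0 := h (P.mapSurjective hf)
  rw [Sylow.coe_mapSurjective] at h0
  -- |f⁻¹H : P ∩ f⁻¹H| = |f⁻¹H : (P ∩ f⁻¹ H) ker| * |ker : ker ∩ P|
  have e1 := Subgroup.relIndex_mul_relIndex ((P : Subgroup G) ⊓ H.comap f)
    ((((P : Subgroup G) ⊔ f.ker)) ⊓ H.comap f) (H.comap f)
    (inf_le_inf_right _ le_sup_left) inf_le_right
  rw [Subgroup.inf_relIndex_right, Subgroup.inf_relIndex_right] at e1
  have e2 : ((P : Subgroup G) ⊔ f.ker).relIndex (H.comap f) = ((P : Subgroup G).map f).relIndex H := by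
    rw [← Subgroup.comap_map_eq, Subgroup.relIndex_comap, Subgroup.map_comap_eq_self_of_surjective hf]
  have e3 : ((P : Subgroup G) ⊓ H.comap f).relIndex (((P : Subgroup G) ⊔ f.ker) ⊓ H.comap f)
      ∣ (P : Subgroup G).relIndex f.ker := by
    -- both `P ∩ A ≤ (P ker) ∩ A` with `(P ker) ∩ A = (P ∩ A) ker`
    have hk : f.ker ≤ H.comap f := by
      intro x hx
      rw [Subgroup.mem_comap, MonoidHom.mem_ker.mp hx]; exact H.one_mem
    have a1 : ((P : Subgroup G) ⊔ f.ker) ⊓ H.comap f = ((P : Subgroup G) ⊓ H.comap f) ⊔ f.ker := by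
      apply le_antisymm
      · intro x hx
        obtain ⟨hx1, hx2⟩ := Subgroup.mem_inf.mp hx
        rw [Subgroup.mem_sup_of_normal_right] at hx1
        obtain ⟨y, hy, z, hz, rfl⟩ := hx1
        refine Subgroup.mul_mem_sup ⟨hy, ?_⟩ hz
        have : y * z * z⁻¹ ∈ H.comap f := (H.comap f).mul_mem hx2 ((H.comap f).inv_mem (hk hz))
        simpa using this
      · exact sup_le (inf_le_inf_right _ le_sup_left) (le_inf le_sup_right hk)
    rw [a1]
    have hpos := relIndex_pos' f.ker ((P : Subgroup G) ⊓ H.comap f)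
    have b1 := Subgroup.relIndex_mul_relIndex
      (((P : Subgroup G) ⊓ H.comap f) ⊓ f.ker) f.ker (((P : Subgroup G) ⊓ H.comap f) ⊔ f.ker)
      inf_le_right le_sup_right
    have b2 := Subgroup.relIndex_mul_relIndex
      (((P : Subgroup G) ⊓ H.comap f) ⊓ f.ker) ((P : Subgroup G) ⊓ H.comap f)
      (((P : Subgroup G) ⊓ H.comap f) ⊔ f.ker) inf_le_left le_sup_left
    rw [Subgroup.inf_relIndex_right, Subgroup.relIndex_sup_right] at b1
    rw [Subgroup.inf_relIndex_left] at b2
    have b3 : ((P : Subgroup G) ⊓ H.comap f).relIndex (((P : Subgroup G) ⊓ H.comap f) ⊔ f.ker)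
        = ((P : Subgroup G) ⊓ H.comap f).relIndex f.ker := by
      apply Nat.eq_of_mul_eq_mul_right hpos
      rw [b1, mul_comm, b2]
    rw [b3]
    have b4 : ((P : Subgroup G) ⊓ H.comap f).relIndex f.ker = (P : Subgroup G).relIndex f.ker := by
      rw [← Subgroup.inf_relIndex_right, ← Subgroup.inf_relIndex_right (P : Subgroup G)]
      rw [inf_assoc, inf_eq_right.mpr hk]
    rw [b4]
  have e4 : ¬ p ∣ (P : Subgroup G).relIndex f.ker := by
    have := (psub_top (p := p) (G := G)).inf_normal (N := f.ker) P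
    rwa [top_inf_eq] at this
  rw [← e1] at hd
  rcases (hp.out.dvd_mul).mp hd with h5 | h5
  · exact e4 (h5.trans e3)
  · rw [e2] at h5; exact h0 h5

theorem PSub.map_equiv {H : Subgroup G} (h : PSub p H) (e : G ≃* G') :
    PSub p (H.map e.toMonoidHom) := h.map (f := e.toMonoidHom) e.surjective

theorem PSub.of_subgroupOf {H M : Subgroup G} (hM : H ≤ M) (h : PSub p (H.subgroupOf M))
    (hi : ∀ P : Sylow p G, ∃ P' : Sylow p M, (P' : Subgroup M) = (P : Subgroup G).subgroupOf M) :
    PSub p H := by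
  intro P hd
  obtain ⟨P', hP'⟩ := hi P
  have := h P'
  rw [hP', relIndex_subgroupOf_subgroupOf hM] at this
  exact this hd

theorem PSub.of_subgroupOf_normal {H N : Subgroup G} [N.Normal] (hN : H ≤ N)
    (h : PSub p (H.subgroupOf N)) : PSub p H :=
  h.of_subgroupOf hN fun P =>
    ⟨((psub_top (p := p) (G := G)).inf_normal_subgroupOf (N := N) |> fun _ =>
      IsPGroup.toSylow (P := (P : Subgroup G).subgroupOf N) P.isPGroup'.comap_subtype (by
        have := (psub_top (p := p) (G := G)).inf_normal (N := N) P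
        rwa [top_inf_eq] at this)), rfl⟩

end Hom

section FOne

variable {G : Type u} [Group G] [Finite G] {p : ℕ} [hp : Fact p.Prime]

theorem PSub.dvd_card_inf {H : Subgroup G} (h : PSub p H) (hd : p ∣ Nat.card H) (P : Sylow p G) :
    p ∣ Nat.card (H ⊓ P : Subgroup G) := by
  rw [h.card_inf P]
  exact dvd_pow_self p (hp.out.factorization_pos_of_dvd Nat.card_pos.ne' hd).ne'

/-- **F1**.  If the Sylow `p`-subgroups of `G` have at most one subgroup of order `p`, then a
`PSub p` subgroup of order divisible by `p` contains all elements of order `p`. -/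
theorem PSub.mem_of_unique {H : Subgroup G} (h : PSub p H) (hd : p ∣ Nat.card H)
    (huniq : ∀ P : Sylow p G, ∀ x ∈ P, ∀ y ∈ P, orderOf x = p → orderOf y = p →
      x ∈ Subgroup.zpowers y)
    {g : G} (hg : orderOf g = p) : g ∈ H := by
  have hpg : IsPGroup p (Subgroup.zpowers g) :=
    IsPGroup.of_card (n := 1) (by rw [Nat.card_zpowers, hg, pow_one])
  obtain ⟨P, hP⟩ := hpg.exists_le_sylow
  obtain ⟨y, hy⟩ := exists_prime_orderOf_dvd_card' (G := (H ⊓ P : Subgroup G)) p (h.dvd_card_inf hd P)
  have hy' : orderOf (y : G) = p := by rwa [Subgroup.orderOf_coe]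
  have := huniq P g (hP (Subgroup.mem_zpowers g)) (y : G) y.2.2 hg hy'
  exact (Subgroup.zpowers_le.mpr y.2.1) this

theorem mem_zpowers_of_cyclic {C : Type u} [Group C] [Finite C] [IsCyclic C] {x y : C}
    (hx : orderOf x = p) (hy : orderOf y = p) : x ∈ Subgroup.zpowers y := by
  classical
  have := Fintype.ofFinite C
  have h1 := IsCyclic.card_pow_eq_one_le (α := C) hp.out.pos
  have h2 : (Finset.univ.filter (fun a : C => a ∈ Subgroup.zpowers y)) ⊆
      Finset.univ.filter (fun a : C => a ^ p = 1) := by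
    intro a ha
    simp only [Finset.mem_filter, Finset.mem_univ, true_and] at ha ⊢
    obtain ⟨k, rfl⟩ := ha
    change (y ^ k) ^ p = 1
    rw [← zpow_natCast, ← zpow_mul, mul_comm, zpow_mul, zpow_natCast, ← hy, pow_orderOf_eq_one,
      one_zpow]
  have h3 : (Finset.univ.filter (fun a : C => a ∈ Subgroup.zpowers y)).card = p := by
    rw [← Fintype.card_subtype, ← Nat.card_eq_fintype_card]
    exact (Nat.card_zpowers y).trans hy
  have h4 := Finset.eq_of_subset_of_card_le h2 (by rw [h3]; exact h1)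
  have h5 : x ∈ Finset.univ.filter (fun a : C => a ^ p = 1) := by
    simp only [Finset.mem_filter, Finset.mem_univ, true_and]
    rw [← hx, pow_orderOf_eq_one]
  rw [← h4] at h5
  simpa using h5

/-- Cyclic Sylow subgroups. -/
theorem uniq_of_isCyclic (hc : ∀ P : Sylow p G, IsCyclic P) (P : Sylow p G) :
    ∀ x ∈ P, ∀ y ∈ P, orderOf x = p → orderOf y = p → x ∈ Subgroup.zpowers y := by
  intro x hx y hy hx1 hy1
  have := hc P
  have h4 : (⟨x, hx⟩ : (P : Subgroup G)) ∈ Subgroup.zpowers (⟨y, hy⟩ : (P : Subgroup G)) :=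
    mem_zpowers_of_cyclic (by rw [Subgroup.orderOf_mk, hx1]) (by rw [Subgroup.orderOf_mk, hy1])
  obtain ⟨k, hk⟩ := h4
  exact ⟨k, by simpa using congrArg Subtype.val hk⟩

/-- If `p² ∤ |G|`, the Sylow `p`-subgroups are cyclic. -/
theorem isCyclic_of_not_sq_dvd (h2 : ¬ p ^ 2 ∣ Nat.card G) (P : Sylow p G) : IsCyclic P := by
  have h1 := P.card_eq_multiplicity
  have h3 : (Nat.card G).factorization p ≤ 1 := by
    by_contra hcon
    push Not at hcon
    exact h2 ((hp.out.pow_dvd_iff_le_factorization Nat.card_pos.ne').mpr hcon)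
  rcases Nat.le_one_iff_eq_zero_or_eq_one.mp h3 with h0 | h0
  · rw [h0, pow_zero] at h1
    have : Subsingleton (P : Subgroup G) := (Nat.card_eq_one_iff_unique.mp h1).1
    infer_instance
  · rw [h0, pow_one] at h1
    exact isCyclic_of_prime_card h1

theorem PSub.mem_of_isCyclic {H : Subgroup G} (h : PSub p H) (hd : p ∣ Nat.card H)
    (hc : ∀ P : Sylow p G, IsCyclic P) {g : G} (hg : orderOf g = p) : g ∈ H :=
  h.mem_of_unique hd (uniq_of_isCyclic hc) hg

/-- **F1** for simple groups. -/
theorem PSub.eq_top_of_unique [IsSimpleGroup G] {H : Subgroup G} (h : PSub p H)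
    (hd : p ∣ Nat.card H)
    (huniq : ∀ P : Sylow p G, ∀ x ∈ P, ∀ y ∈ P, orderOf x = p → orderOf y = p →
      x ∈ Subgroup.zpowers y) : H = ⊤ := by
  have hdG : p ∣ Nat.card G := hd.trans (Subgroup.card_subgroup_dvd_card H)
  obtain ⟨x, hx⟩ := exists_prime_orderOf_dvd_card' (G := G) p hdG
  have hN : Subgroup.normalClosure {x} = ⊤ := by
    rcases (Subgroup.normalClosure_normal (s := ({x} : Set G))).eq_bot_or_eq_top with h0 | h0
    · exfalso
      have : x ∈ (⊥ : Subgroup G) := h0 ▸ Subgroup.subset_normalClosure rfl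
      rw [Subgroup.mem_bot] at this
      rw [this, orderOf_one] at hx
      exact hp.out.one_lt.ne hx
    · exact h0
  rw [eq_top_iff, ← hN, Subgroup.normalClosure, Subgroup.closure_le]
  intro y hy
  rw [Group.mem_conjugatesOfSet_iff] at hy
  obtain ⟨z, hz, hzy⟩ := hy
  rw [Set.mem_singleton_iff] at hz
  subst hz
  refine h.mem_of_unique hd huniq ?_
  obtain ⟨c, hc⟩ := isConj_iff.mp hzy
  rw [← hx]
  exact (SemiconjBy.orderOf_eq c (by rw [SemiconjBy, ← hc]; group)).symm

theorem PSub.eq_top_of_isCyclic [IsSimpleGroup G] {H : Subgroup G} (h : PSub p H)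
    (hd : p ∣ Nat.card H) (hc : ∀ P : Sylow p G, IsCyclic P) : H = ⊤ :=
  h.eq_top_of_unique hd (uniq_of_isCyclic hc)

theorem PSub.eq_top_of_not_sq_dvd [IsSimpleGroup G] {H : Subgroup G} (h : PSub p H)
    (hd : p ∣ Nat.card H) (h2 : ¬ p ^ 2 ∣ Nat.card G) : H = ⊤ :=
  h.eq_top_of_isCyclic hd (isCyclic_of_not_sq_dvd h2)

end FOne

section Parabolic

variable {G : Type u} [Group G] [Finite G] {p : ℕ} [hp : Fact p.Prime]

open scoped Pointwise in
theorem mem_smul_sylow {P : Sylow p G} {g y : G} : y ∈ g • P ↔ ∃ z ∈ P, g * z * g⁻¹ = y := by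
  have : y ∈ g • P ↔ y ∈ MulAut.conj g • (P : Set G) := Iff.rfl
  rw [this]
  constructor
  · rintro ⟨z, hz, rfl⟩; exact ⟨z, hz, rfl⟩
  · rintro ⟨z, hz, rfl⟩; exact ⟨z, hz, rfl⟩

/-- Base form of the parabolic principle: `Q` normal of index a power of `p` and of order prime to
`p`. -/
theorem PSub.conj_mem_aux {Y Q : Subgroup G} [Q.Normal] (h : PSub p Y)
    (hQ : p.Coprime (Nat.card Q)) (hi : IsPGroup p (G ⧸ Q)) {R : Subgroup G} (hR : IsPGroup p R)
    (hRi : ¬ p ∣ R.index) {x u : G} (hxY : x ∈ Y) (hxR : x ∈ R) (hu : u ∈ Q) :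
    u * x * u⁻¹ ∈ Y := by
  set π := QuotientGroup.mk' Q with hπ
  -- the conjugate Sylow subgroup
  set R' : Sylow p G := u • (hR.toSylow hRi) with hR'
  have hR'mem : u * x * u⁻¹ ∈ R' := mem_smul_sylow.mpr ⟨x, hxR, rfl⟩
  -- `π (Y ∩ R') = π Y`
  have h1 : (Y ⊓ (R' : Subgroup G)).map π = Y.map π := by
    have hle : (Y ⊓ (R' : Subgroup G)).map π ≤ Y.map π := Subgroup.map_mono inf_le_left
    have hpg : IsPGroup p (Y.map π) := hi.to_subgroup _
    obtain ⟨n, hn⟩ := IsPGroup.iff_card.mp hpg
    have hind : ((Y ⊓ (R' : Subgroup G)).map π).relIndex (Y.map π) ∣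
        (Y ⊓ (R' : Subgroup G)).relIndex Y := by
      rw [Subgroup.relIndex_map_map]
      have a2 : Y ⊔ π.ker = (Y.map π).comap π := (Subgroup.comap_map_eq π _).symm
      have a1 : (Y ⊓ (R' : Subgroup G)) ⊔ π.ker = ((Y ⊓ (R' : Subgroup G)).map π).comap π :=
        (Subgroup.comap_map_eq π _).symm
      have e2 : ((Y ⊓ (R' : Subgroup G)) ⊔ π.ker).relIndex (Y ⊔ π.ker)
          = ((Y ⊓ (R' : Subgroup G)) ⊔ π.ker).relIndex Y := by
        rw [a2, a1, Subgroup.relIndex_comap, Subgroup.relIndex_comap,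
          Subgroup.map_comap_eq_self_of_surjective (QuotientGroup.mk'_surjective Q)]
      rw [e2]
      exact Subgroup.relIndex_dvd_of_le_left Y le_sup_left
    have hnd : ¬ p ∣ ((Y ⊓ (R' : Subgroup G)).map π).relIndex (Y.map π) := by
      intro hd
      have := hd.trans hind
      rw [Subgroup.inf_relIndex_left] at this
      exact h R' this
    have hdv : ((Y ⊓ (R' : Subgroup G)).map π).relIndex (Y.map π) ∣ Nat.card (Y.map π) :=
      Subgroup.index_dvd_card _
    rw [hn] at hdv
    obtain ⟨m, -, hm⟩ := (Nat.dvd_prime_pow hp.out).mp hdv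
    have hm0 : m = 0 := by
      by_contra hne
      exact hnd (hm ▸ dvd_pow_self p hne)
    rw [hm0, pow_zero, Subgroup.relIndex_eq_one] at hm
    exact le_antisymm hle hm
  have h2 : π x ∈ (Y ⊓ (R' : Subgroup G)).map π := by
    rw [h1]; exact Subgroup.mem_map_of_mem π hxY
  obtain ⟨d, hd, hdx⟩ := h2
  -- `d` and `u x u⁻¹` are both in `R'` with the same image
  have h3 : π (u * x * u⁻¹) = π d := by
    rw [hdx, map_mul, map_mul, map_inv]
    have : π u = 1 := (QuotientGroup.eq_one_iff u).mpr hu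
    rw [this]; simp
  have h4 : d⁻¹ * (u * x * u⁻¹) ∈ Q ⊓ (R' : Subgroup G) := by
    refine ⟨?_, (R' : Subgroup G).mul_mem ((R' : Subgroup G).inv_mem hd.2) hR'mem⟩
    exact (QuotientGroup.eq (s := Q)).mp h3.symm
  have h5 : Q ⊓ (R' : Subgroup G) = ⊥ := by
    apply Disjoint.eq_bot
    apply Subgroup.disjoint_of_coprime_natCard
    obtain ⟨n, hn⟩ := IsPGroup.iff_card.mp R'.isPGroup'
    rw [hn]
    exact (Nat.Coprime.pow_left n hQ).symm
  rw [h5, Subgroup.mem_bot] at h4
  have h6 : u * x * u⁻¹ = d := by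
    rw [inv_mul_eq_one] at h4; exact h4.symm
  rw [h6]; exact hd.1

/-- **Parabolic principle** (helper940).  If the Sylow `p`-subgroup `R` of `G` normalizes the
`p'`-subgroup `Q`, then `H` contains all `Q`-conjugates of every `x ∈ H ∩ R`. -/
theorem PSub.conj_mem {H : Subgroup G} (h : PSub p H) (R : Sylow p G) {Q : Subgroup G}
    (hQ : p.Coprime (Nat.card Q)) (hn : (R : Subgroup G) ≤ Subgroup.normalizer Q)
    {x u : G} (hxH : x ∈ H) (hxR : x ∈ R) (hu : u ∈ Q) : u * x * u⁻¹ ∈ H := by
  set M : Subgroup G := (R : Subgroup G) ⊔ Q with hM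
  have hRM : (R : Subgroup G) ≤ M := le_sup_left
  have hQM : Q ≤ M := le_sup_right
  have hMN : M ≤ Subgroup.normalizer Q := sup_le hn Subgroup.le_normalizer
  have hMi : ¬ p ∣ M.index := fun hd =>
    R.not_dvd_index (hd.trans (Subgroup.index_dvd_of_le hRM))
  have hY := h.inf_of_not_dvd_index hMi
  have hnorm : (Q.subgroupOf M).Normal := by
    constructor
    intro a ha g
    rw [Subgroup.mem_subgroupOf] at ha ⊢
    have := (Subgroup.mem_normalizer_iff.mp (hMN g.2) (a : G)).mp ha
    simpa only [_root_.Subgroup.coe_mul, _root_.InvMemClass.coe_inv] using this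
  have hQc : p.Coprime (Nat.card (Q.subgroupOf M)) := by
    rw [Nat.card_congr (Subgroup.subgroupOfEquivOfLe hQM).toEquiv]; exact hQ
  have hR' : IsPGroup p ((R : Subgroup G).subgroupOf M) := R.isPGroup'.comap_subtype
  have hRi : ¬ p ∣ ((R : Subgroup G).subgroupOf M).index := by
    intro hd
    have : (R : Subgroup G).relIndex M * M.index = (R : Subgroup G).index :=
      Subgroup.relIndex_mul_index hRM
    exact R.not_dvd_index (this ▸ dvd_mul_of_dvd_left hd _)
  have htop : (R : Subgroup G).subgroupOf M ⊔ Q.subgroupOf M = ⊤ := by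
    rw [← Subgroup.subgroupOf_sup hRM hQM, ← hM, Subgroup.subgroupOf_self]
  have hquot : IsPGroup p (M ⧸ Q.subgroupOf M) := by
    have h1 : ((R : Subgroup G).subgroupOf M).map (QuotientGroup.mk' (Q.subgroupOf M)) = ⊤ := by
      have h2 : (((R : Subgroup G).subgroupOf M ⊔ Q.subgroupOf M)).map
          (QuotientGroup.mk' (Q.subgroupOf M)) = ⊤ := by
        rw [htop, ← MonoidHom.range_eq_map]
        exact MonoidHom.range_eq_top.mpr (QuotientGroup.mk'_surjective _)
      rw [Subgroup.map_sup, QuotientGroup.map_mk'_self, sup_bot_eq] at h2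
      exact h2
    have h3 : IsPGroup p (((R : Subgroup G).subgroupOf M).map (QuotientGroup.mk' (Q.subgroupOf M))) :=
      hR'.map _
    rw [h1] at h3
    exact h3.of_equiv Subgroup.topEquiv
  have hres := hY.conj_mem_aux hQc hquot hR' hRi (x := ⟨x, hRM hxR⟩) (u := ⟨u, hQM hu⟩)
    (by rw [Subgroup.mem_subgroupOf]; exact ⟨hxH, hRM hxR⟩)
    (by rw [Subgroup.mem_subgroupOf]; exact hxR) (by rw [Subgroup.mem_subgroupOf]; exact hu)
  rw [Subgroup.mem_subgroupOf] at hres
  exact hres.1

/-- Closure form of the parabolic principle: `S` generated by `p'`-subgroups normalized by `R`. -/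
theorem PSub.conj_mem_closure {H : Subgroup G} (h : PSub p H) (R : Sylow p G) {ι : Type*}
    (Q : ι → Subgroup G) (hQ : ∀ i, p.Coprime (Nat.card (Q i)))
    (hn : ∀ i, (R : Subgroup G) ≤ Subgroup.normalizer (Q i))
    {x : G} (hxH : x ∈ H) (hxR : x ∈ R) {g : G} (hg : g ∈ ⨆ i, Q i) : g * x * g⁻¹ ∈ H := by
  -- the set of good `g` is stable under right multiplication by `Q i`
  have key : ∀ g : G, g * x * g⁻¹ ∈ H → ∀ i, ∀ u ∈ Q i, (g * u) * x * (g * u)⁻¹ ∈ H := by
    intro g hg i u hu
    have hgx : g * x * g⁻¹ ∈ g • R := mem_smul_sylow.mpr ⟨x, hxR, rfl⟩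
    have hcop : p.Coprime (Nat.card ((Q i).map (MulAut.conj g).toMonoidHom)) := by
      rw [Nat.card_congr ((Q i).equivMapOfInjective _ (MulAut.conj g).injective).symm.toEquiv]
      exact hQ i
    have hnn : ((g • R : Sylow p G) : Subgroup G) ≤
        Subgroup.normalizer ((Q i).map (MulAut.conj g).toMonoidHom) := by
      intro y hy
      obtain ⟨z, hz, rfl⟩ := mem_smul_sylow.mp (show y ∈ (g • R : Sylow p G) from hy)
      have hz' := Subgroup.mem_normalizer_iff.mp (hn i hz)
      rw [Subgroup.mem_normalizer_iff]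
      intro a
      constructor
      · rintro ⟨b, hb, rfl⟩
        exact ⟨z * b * z⁻¹, (hz' b).mp hb, by simp only [mul_assoc, _root_.MulEquiv.toMonoidHom_eq_coe, _root_.MonoidHom.coe_coe, _root_.MulAut.conj_apply, _root_.inv_mul_cancel_left, _root_.mul_inv_rev, _root_.inv_inv]⟩
      · rintro ⟨b, hb, hb2⟩
        refine ⟨z⁻¹ * b * z, ?_, ?_⟩
        · rw [SetLike.mem_coe, hz' (z⁻¹ * b * z)]
          have : z * (z⁻¹ * b * z) * z⁻¹ = b := by group
          rw [this]; exact hb
        · have hb2' : g * b * g⁻¹ = (g * z * g⁻¹) * a * (g * z * g⁻¹)⁻¹ := by simpa only [_root_.mul_inv_rev, _root_.inv_inv, _root_.MulEquiv.toMonoidHom_eq_coe, _root_.MonoidHom.coe_coe, _root_.MulAut.conj_apply] using hb2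
          have : b = z * g⁻¹ * a * g * z⁻¹ := by
            calc b = g⁻¹ * (g * b * g⁻¹) * g := by group
              _ = g⁻¹ * ((g * z * g⁻¹) * a * (g * z * g⁻¹)⁻¹) * g := by rw [hb2']
              _ = _ := by group
          change g * (z⁻¹ * b * z) * g⁻¹ = a
          rw [this]; group
    have := h.conj_mem (g • R) hcop hnn hg hgx (u := g * u * g⁻¹)
      ⟨u, hu, rfl⟩
    have e : (g * u) * x * (g * u)⁻¹ = (g * u * g⁻¹) * (g * x * g⁻¹) * (g * u * g⁻¹)⁻¹ := by group
    rw [e]; exact this
  -- induction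
  have main : ∀ g ∈ ⨆ i, Q i, ∀ a : G, a * x * a⁻¹ ∈ H → (a * g) * x * (a * g)⁻¹ ∈ H := by
    intro g hg
    induction hg using Subgroup.iSup_induction' with
    | hp i u hu => intro a ha; exact key a ha i u hu
    | h1 => intro a ha; simpa only [_root_.mul_one] using ha
    | hmul u v _ _ hu hv => intro a ha; have := hv (a * u) (hu a ha); rwa [mul_assoc a u v] at this
  have := main g hg 1 (by simpa using hxH)
  simpa only [_root_.one_mul] using this

/-- If `G` is generated by `p'`-subgroups normalized by one Sylow `p`-subgroup, a `PSub p`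
subgroup of order divisible by `p` of a simple group is everything. -/
theorem PSub.eq_top_of_iSup [IsSimpleGroup G] {H : Subgroup G} (h : PSub p H)
    (hd : p ∣ Nat.card H) (R : Sylow p G) {ι : Type*}
    (Q : ι → Subgroup G) (hQ : ∀ i, p.Coprime (Nat.card (Q i)))
    (hn : ∀ i, (R : Subgroup G) ≤ Subgroup.normalizer (Q i)) (htop : ⨆ i, Q i = ⊤) : H = ⊤ := by
  obtain ⟨y, hy⟩ := exists_prime_orderOf_dvd_card' (G := (H ⊓ R : Subgroup G)) p (h.dvd_card_inf hd R)
  have hy' : orderOf (y : G) = p := by rwa [Subgroup.orderOf_coe]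
  have hN : Subgroup.normalClosure {(y : G)} = ⊤ := by
    rcases (Subgroup.normalClosure_normal (s := ({(y : G)} : Set G))).eq_bot_or_eq_top with h0 | h0
    · exfalso
      have : (y : G) ∈ (⊥ : Subgroup G) := h0 ▸ Subgroup.subset_normalClosure rfl
      rw [Subgroup.mem_bot] at this
      rw [this, orderOf_one] at hy'
      exact hp.out.one_lt.ne hy'
    · exact h0
  rw [eq_top_iff, ← hN, Subgroup.normalClosure, Subgroup.closure_le]
  intro z hz
  rw [Group.mem_conjugatesOfSet_iff] at hz
  obtain ⟨w, hw, hwz⟩ := hz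
  rw [Set.mem_singleton_iff] at hw
  subst hw
  obtain ⟨c, hc⟩ := isConj_iff.mp hwz
  rw [← hc]
  exact h.conj_mem_closure R Q hQ hn y.2.1 y.2.2 (htop ▸ Subgroup.mem_top c)

end Parabolic

section ClassId

variable {G : Type u} [Group G] [Finite G] {p : ℕ} [hp : Fact p.Prime]

/-- Two intersections `H ∩ P`, `H ∩ P'` are conjugate in `H`. -/
theorem PSub.exists_conj {H : Subgroup G} (h : PSub p H) (P P' : Sylow p G) :
    ∃ c ∈ H, ∀ x : G, (x ∈ H ∧ x ∈ P) ↔ (c * x * c⁻¹ ∈ H ∧ c * x * c⁻¹ ∈ P') := by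
  obtain ⟨c, hc⟩ := MulAction.exists_smul_eq H (h.syl P) (h.syl P')
  refine ⟨c, c.2, fun x => ?_⟩
  constructor
  · rintro ⟨hx, hxP⟩
    have h1 : (⟨x, hx⟩ : H) ∈ h.syl P := by
      change (⟨x, hx⟩ : H) ∈ ((h.syl P : Sylow p H) : Subgroup H)
      rw [h.coe_syl, Subgroup.mem_subgroupOf]; exact hxP
    have h2 : c * (⟨x, hx⟩ : H) * c⁻¹ ∈ h.syl P' := by
      rw [← hc]; exact mem_smul_sylow.mpr ⟨_, h1, rfl⟩
    have h3 : c * (⟨x, hx⟩ : H) * c⁻¹ ∈ ((h.syl P' : Sylow p H) : Subgroup H) := h2
    rw [h.coe_syl, Subgroup.mem_subgroupOf] at h3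
    exact ⟨H.mul_mem (H.mul_mem c.2 hx) (H.inv_mem c.2), h3⟩
  · rintro ⟨hx, hxP⟩
    have hx' : x ∈ H := by
      have := H.mul_mem (H.mul_mem (H.inv_mem c.2) hx) c.2
      have e : (c : G)⁻¹ * ((c : G) * x * (c : G)⁻¹) * c = x := by group
      rwa [e] at this
    refine ⟨hx', ?_⟩
    have h1 : c * (⟨x, hx'⟩ : H) * c⁻¹ ∈ h.syl P' := by
      change c * (⟨x, hx'⟩ : H) * c⁻¹ ∈ ((h.syl P' : Sylow p H) : Subgroup H)
      rw [h.coe_syl, Subgroup.mem_subgroupOf]; exact hxP
    rw [← hc] at h1
    obtain ⟨z, hz, hzx⟩ := mem_smul_sylow.mp h1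
    have h4 : z = ⟨x, hx'⟩ := by
      have := mul_right_cancel hzx
      exact mul_left_cancel this
    rw [h4] at hz
    have h5 : (⟨x, hx'⟩ : H) ∈ ((h.syl P : Sylow p H) : Subgroup H) := hz
    rwa [h.coe_syl, Subgroup.mem_subgroupOf] at h5

theorem conj_aux {k z y : G} (h : k * z * k⁻¹ = y) : k⁻¹ * y * k⁻¹⁻¹ = z := by
  rw [← h]; group

/-- Double counting for one class. -/
theorem card_class_mul (z : G) (P : Sylow p G) :
    Nat.card {x : G // IsConj z x} * Nat.card {R : Sylow p G // z ∈ R} =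
      Nat.card (Sylow p G) * Nat.card {x : G // IsConj z x ∧ x ∈ P} := by
  classical
  -- count pairs `(x, R)` with `x ∈ z^G`, `x ∈ R`
  let T := {a : G × Sylow p G // IsConj z a.1 ∧ a.1 ∈ a.2}
  have e1 : Nat.card T = Nat.card {x : G // IsConj z x} * Nat.card {R : Sylow p G // z ∈ R} := by
    rw [← Nat.card_prod]
    choose c hc using fun x : {x : G // IsConj z x} => isConj_iff.mp x.2
    refine Nat.card_congr (Equiv.symm ?_)
    refine
      { toFun := fun a => ⟨(a.1.1, c a.1 • a.2.1), a.1.2, ?_⟩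
        invFun := fun a => (⟨a.1.1, a.2.1⟩, ⟨(c ⟨a.1.1, a.2.1⟩)⁻¹ • a.1.2, ?_⟩)
        left_inv := ?_
        right_inv := ?_ }
    · have := hc a.1
      rw [← this]
      exact mem_smul_sylow.mpr ⟨z, a.2.2, rfl⟩
    · refine mem_smul_sylow.mpr ⟨a.1.1, a.2.2, ?_⟩
      have h1 := hc ⟨a.1.1, a.2.1⟩
      exact conj_aux h1
    · intro a
      simp
    · intro a
      simp
  have e2 : Nat.card T = Nat.card (Sylow p G) * Nat.card {x : G // IsConj z x ∧ x ∈ P} := by
    rw [← Nat.card_prod]
    choose c hc using fun R : Sylow p G => MulAction.exists_smul_eq G P R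
    refine Nat.card_congr (Equiv.symm ?_)
    refine
      { toFun := fun a => ⟨(c a.1 * a.2.1 * (c a.1)⁻¹, a.1), ?_, ?_⟩
        invFun := fun a => (a.1.2, ⟨(c a.1.2)⁻¹ * a.1.1 * c a.1.2, ?_, ?_⟩)
        left_inv := ?_
        right_inv := ?_ }
    · exact a.2.2.1.trans (isConj_iff.mpr ⟨_, rfl⟩)
    · have : c a.1 * a.2.1 * (c a.1)⁻¹ ∈ c a.1 • P := mem_smul_sylow.mpr ⟨a.2.1, a.2.2.2, rfl⟩
      rwa [hc a.1] at this
    · exact a.2.1.trans (isConj_iff.mpr ⟨(c a.1.2)⁻¹, by group⟩)
    · have h1 : a.1.1 ∈ c a.1.2 • P := by rw [hc]; exact a.2.2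
      obtain ⟨y, hy, hya⟩ := mem_smul_sylow.mp h1
      have : (c a.1.2)⁻¹ * a.1.1 * c a.1.2 = y := by rw [← hya]; group
      rw [this]; exact hy
    · intro a
      ext <;> simp [mul_assoc]
    · intro a
      ext <;> simp [mul_assoc]
  rw [← e1, e2]

/-- Double counting for an `H`-class. -/
theorem PSub.card_class_mul {H : Subgroup G} (h : PSub p H) (z : G) (hz : z ∈ H) (P : Sylow p G) :
    Nat.card {x : G // ∃ c ∈ H, c * z * c⁻¹ = x} * Nat.card {R : Sylow p G // z ∈ R} =
      Nat.card (Sylow p G) * Nat.card {x : G // (∃ c ∈ H, c * z * c⁻¹ = x) ∧ x ∈ P} := by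
  classical
  let T := {a : G × Sylow p G // (∃ c ∈ H, c * z * c⁻¹ = a.1) ∧ a.1 ∈ a.2}
  have e1 : Nat.card T = Nat.card {x : G // ∃ c ∈ H, c * z * c⁻¹ = x} *
      Nat.card {R : Sylow p G // z ∈ R} := by
    rw [← Nat.card_prod]
    choose c hcH hc using fun x : {x : G // ∃ c ∈ H, c * z * c⁻¹ = x} => x.2
    refine Nat.card_congr (Equiv.symm ?_)
    refine
      { toFun := fun a => ⟨(a.1.1, c a.1 • a.2.1), a.1.2, ?_⟩
        invFun := fun a => (⟨a.1.1, a.2.1⟩, ⟨(c ⟨a.1.1, a.2.1⟩)⁻¹ • a.1.2, ?_⟩)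
        left_inv := ?_
        right_inv := ?_ }
    · have := hc a.1
      rw [← this]
      exact mem_smul_sylow.mpr ⟨z, a.2.2, rfl⟩
    · refine mem_smul_sylow.mpr ⟨a.1.1, a.2.2, ?_⟩
      have h1 := hc ⟨a.1.1, a.2.1⟩
      exact conj_aux h1
    · intro a
      simp
    · intro a
      simp
  have e2 : Nat.card T = Nat.card (Sylow p G) *
      Nat.card {x : G // (∃ c ∈ H, c * z * c⁻¹ = x) ∧ x ∈ P} := by
    rw [← Nat.card_prod]
    choose c hcH hc using fun R : Sylow p G => h.exists_conj P R
    have hmem : ∀ x : G, (∃ c ∈ H, c * z * c⁻¹ = x) → x ∈ H := by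
      rintro x ⟨c, hc, rfl⟩; exact H.mul_mem (H.mul_mem hc hz) (H.inv_mem hc)
    refine Nat.card_congr (Equiv.symm ?_)
    refine
      { toFun := fun a => ⟨(c a.1 * a.2.1 * (c a.1)⁻¹, a.1), ?_, ?_⟩
        invFun := fun a => (a.1.2, ⟨(c a.1.2)⁻¹ * a.1.1 * c a.1.2, ?_, ?_⟩)
        left_inv := ?_
        right_inv := ?_ }
    · obtain ⟨d, hd, hd2⟩ := a.2.2.1
      exact ⟨c a.1 * d, H.mul_mem (hcH _) hd, by rw [← hd2]; group⟩
    · exact ((hc a.1 a.2.1).mp ⟨hmem _ a.2.2.1, a.2.2.2⟩).2
    · obtain ⟨d, hd, hd2⟩ := a.2.1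
      exact ⟨(c a.1.2)⁻¹ * d, H.mul_mem (H.inv_mem (hcH _)) hd, by rw [← hd2]; group⟩
    · refine ((hc a.1.2 _).mpr ?_).2
      have e : c a.1.2 * ((c a.1.2)⁻¹ * a.1.1 * c a.1.2) * (c a.1.2)⁻¹ = a.1.1 := by group
      rw [e]
      exact ⟨hmem _ a.2.1, a.2.2⟩
    · intro a
      ext <;> simp [mul_assoc]
    · intro a
      ext <;> simp [mul_assoc]
  rw [← e1, e2]

/-- **Class identity (D)**. -/
theorem PSub.card_class_inter_mul {H : Subgroup G} (h : PSub p H) {z : G} (hz : z ∈ H)
    (P : Sylow p G) (hzp : z ∈ P) :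
    Nat.card {x : G // IsConj z x ∧ x ∈ P} * Nat.card {x : G // ∃ c ∈ H, c * z * c⁻¹ = x} =
      Nat.card {x : G // IsConj z x} *
        Nat.card {x : G // (∃ c ∈ H, c * z * c⁻¹ = x) ∧ x ∈ P} := by
  have h1 := KW.card_class_mul z P
  have h2 := h.card_class_mul z hz P
  have hpos : 0 < Nat.card {R : Sylow p G // z ∈ R} := by
    have : Nonempty {R : Sylow p G // z ∈ R} := ⟨⟨P, hzp⟩⟩
    exact Nat.card_pos
  have hpos2 : 0 < Nat.card (Sylow p G) := Nat.card_pos
  apply Nat.eq_of_mul_eq_mul_left hpos2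
  apply Nat.eq_of_mul_eq_mul_left hpos
  set a := Nat.card {x : G // IsConj z x ∧ x ∈ P}
  set b := Nat.card {x : G // ∃ c ∈ H, c * z * c⁻¹ = x}
  set c := Nat.card {x : G // IsConj z x}
  set d := Nat.card {x : G // (∃ c ∈ H, c * z * c⁻¹ = x) ∧ x ∈ P}
  set n := Nat.card (Sylow p G)
  set m := Nat.card {R : Sylow p G // z ∈ R}
  calc m * (n * (a * b)) = (n * a) * (b * m) := by ring
    _ = (c * m) * (n * d) := by rw [← h1, h2]
    _ = m * (n * (c * d)) := by ring

theorem card_hclass_dvd (H : Subgroup G) (z : G) :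
    Nat.card {x : G // ∃ c ∈ H, c * z * c⁻¹ = x} ∣ Nat.card H := by
  let _ : MulAction H G := MulAction.compHom G ((MulAut.conj (G := G)).comp H.subtype)
  have h1 := MulAction.index_stabilizer H z
  have h2 : (MulAction.orbit H z) = {x : G | ∃ c ∈ H, c * z * c⁻¹ = x} := by
    ext x
    constructor
    · rintro ⟨c, rfl⟩; exact ⟨c, c.2, rfl⟩
    · rintro ⟨c, hc, rfl⟩; exact ⟨⟨c, hc⟩, rfl⟩
  rw [h2] at h1
  have h3 : Nat.card {x : G // ∃ c ∈ H, c * z * c⁻¹ = x} =
      (MulAction.stabilizer H z).index := by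
    rw [h1]; rfl
  rw [h3]
  exact Subgroup.index_dvd_card _

/-- Divisors of the class length prime to `|H|` divide `|z^G ∩ P|`. -/
theorem PSub.dvd_card_class_inter {H : Subgroup G} (h : PSub p H) {z : G} (hz : z ∈ H)
    (P : Sylow p G) (hzp : z ∈ P) {m : ℕ} (hm : m ∣ Nat.card {x : G // IsConj z x})
    (hco : m.Coprime (Nat.card H)) : m ∣ Nat.card {x : G // IsConj z x ∧ x ∈ P} := by
  have h1 := h.card_class_inter_mul hz P hzp
  have h2 : m ∣ Nat.card {x : G // IsConj z x ∧ x ∈ P} *
      Nat.card {x : G // ∃ c ∈ H, c * z * c⁻¹ = x} := h1 ▸ dvd_mul_of_dvd_left hm _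
  exact (hco.coprime_dvd_right (card_hclass_dvd H z)).dvd_of_dvd_mul_right h2

theorem card_class_inter_lt {z : G} (hz : z ≠ 1) (P : Sylow p G) :
    Nat.card {x : G // IsConj z x ∧ x ∈ P} < Nat.card P := by
  have hsub : {x : G | IsConj z x ∧ x ∈ P} ⊂ (P : Set G) := by
    refine ⟨fun x hx => hx.2, fun hsup => ?_⟩
    have h1 : (1 : G) ∈ {x : G | IsConj z x ∧ x ∈ P} := hsup (one_mem P)
    exact hz ((isConj_one_left).mp h1.1)
  exact Set.ncard_lt_ncard hsub (Set.toFinite _)

theorem card_class_inter_pos {z : G} (P : Sylow p G) (hzp : z ∈ P) :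
    0 < Nat.card {x : G // IsConj z x ∧ x ∈ P} := by
  have : Nonempty {x : G // IsConj z x ∧ x ∈ P} := ⟨⟨z, IsConj.refl z, hzp⟩⟩
  exact Nat.card_pos

/-- Main numerical consequence: a divisor `m` of `|z^G|` prime to `|H|` is `< |P|`. -/
theorem PSub.lt_card_sylow {H : Subgroup G} (h : PSub p H) {z : G} (hz : z ∈ H) (hz1 : z ≠ 1)
    (P : Sylow p G) (hzp : z ∈ P) {m : ℕ} (hm : m ∣ Nat.card {x : G // IsConj z x})
    (hco : m.Coprime (Nat.card H)) : m < Nat.card P :=
  (Nat.le_of_dvd (card_class_inter_pos P hzp) (h.dvd_card_class_inter hz P hzp hm hco)).trans_lt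
    (card_class_inter_lt hz1 P)

end ClassId

section Product

open scoped commutatorElement

variable {A B : Type*} [Group A] [Group B] [Finite A] [Finite B] {p : ℕ} [hp : Fact p.Prime]

/-- Core of the product principle. -/
theorem PSub.prod_aux {Y : Subgroup (A × B)} (h : PSub p Y) {a : A} {b : B} (hab : (a, b) ∈ Y)
    (hpb : ∃ k, b ^ (p ^ k) = 1) :
    ∃ Y₁ : Subgroup A, PSub p Y₁ ∧ a ∈ Y₁ ∧ (∀ x ∈ Y₁, ∃ k, (x ^ (p ^ k), (1 : B)) ∈ Y) ∧
      (∀ x ∈ Y₁, ∀ y, (y, (1 : B)) ∈ Y → (x * y * x⁻¹, (1 : B)) ∈ Y) := by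
  have hzb : IsPGroup p (Subgroup.zpowers b) := by
    obtain ⟨k, hk⟩ := hpb
    rw [IsPGroup.iff_card]
    obtain ⟨m, -, hm⟩ := (Nat.dvd_prime_pow hp.out).mp (orderOf_dvd_of_pow_eq_one hk)
    exact ⟨m, by rw [Nat.card_zpowers, hm]⟩
  obtain ⟨R₂, hR₂⟩ := hzb.exists_le_sylow
  have hbR : b ∈ R₂ := hR₂ (Subgroup.mem_zpowers b)
  set Y' : Subgroup (A × B) := Y ⊓ (⊤ : Subgroup A).prod (R₂ : Subgroup B) with hY'
  refine ⟨Y'.map (MonoidHom.fst A B), ?_, ⟨(a, b), ⟨hab, ⟨trivial, hbR⟩⟩, rfl⟩, ?_, ?_⟩
  · intro R₁ hd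
    set S : Subgroup (A × B) := (R₁ : Subgroup A).prod (R₂ : Subgroup B) with hS
    have hSp : IsPGroup p S := by
      obtain ⟨n, hn⟩ := IsPGroup.iff_card.mp R₁.isPGroup'
      obtain ⟨m, hm⟩ := IsPGroup.iff_card.mp R₂.isPGroup'
      refine IsPGroup.iff_card.mpr ⟨n + m, ?_⟩
      rw [Nat.card_congr (Subgroup.prodEquiv _ _).toEquiv, Nat.card_prod, hn, hm, pow_add]
    have hSi : ¬ p ∣ S.index := by
      have : S.index = (R₁ : Subgroup A).index * (R₂ : Subgroup B).index :=
        Subgroup.index_prod _ _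
      rw [this]
      intro hd
      rcases (hp.out.dvd_mul).mp hd with h1 | h1
      · exact R₁.not_dvd_index h1
      · exact R₂.not_dvd_index h1
    have h1 := h.not_dvd_of_isPGroup hSp hSi
    have hle : S ⊓ Y ≤ Y' := by
      rintro ⟨x, y⟩ ⟨⟨-, hy⟩, hxy⟩
      exact ⟨hxy, trivial, hy⟩
    have h2 : S.relIndex Y' ∣ S.relIndex Y := by
      have e := Subgroup.relIndex_mul_relIndex (S ⊓ Y) Y' Y hle inf_le_left
      rw [Subgroup.inf_relIndex_right] at e
      have e2 : (S ⊓ Y).relIndex Y' = S.relIndex Y' := by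
        rw [← Subgroup.inf_relIndex_right, ← Subgroup.inf_relIndex_right S]
        congr 1
        rw [inf_assoc]
        congr 1
        exact inf_eq_right.mpr inf_le_left
      rw [e2] at e
      exact ⟨_, e.symm⟩
    have h3 : (R₁ : Subgroup A).relIndex (Y'.map (MonoidHom.fst A B)) ∣ S.relIndex Y' := by
      have e1 : S.map (MonoidHom.fst A B) ≤ (R₁ : Subgroup A) := by
        rintro _ ⟨⟨x, y⟩, ⟨hx, -⟩, rfl⟩; exact hx
      refine (Subgroup.relIndex_dvd_of_le_left _ e1).trans ?_
      rw [Subgroup.relIndex_map_map]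
      have a2 : Y' ⊔ (MonoidHom.fst A B).ker = (Y'.map (MonoidHom.fst A B)).comap _ :=
        (Subgroup.comap_map_eq _ _).symm
      have a1 : S ⊔ (MonoidHom.fst A B).ker = (S.map (MonoidHom.fst A B)).comap _ :=
        (Subgroup.comap_map_eq _ _).symm
      have e2 : (S ⊔ (MonoidHom.fst A B).ker).relIndex (Y' ⊔ (MonoidHom.fst A B).ker)
          = (S ⊔ (MonoidHom.fst A B).ker).relIndex Y' := by
        rw [a2, a1, Subgroup.relIndex_comap, Subgroup.relIndex_comap,
          Subgroup.map_comap_eq_self_of_surjective Prod.fst_surjective]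
      rw [e2]
      exact Subgroup.relIndex_dvd_of_le_left Y' le_sup_left
    exact h1 (hd.trans (h3.trans h2))
  · rintro _ ⟨⟨x, y⟩, ⟨hxy, ⟨-, hy⟩⟩, rfl⟩
    obtain ⟨k, hk⟩ := R₂.isPGroup' ⟨y, hy⟩
    refine ⟨k, ?_⟩
    have h1 := Y.pow_mem hxy (p ^ k)
    have h2 : y ^ (p ^ k) = 1 := by simpa only [_root_.SubmonoidClass.mk_pow, _root_.OneMemClass.coe_one] using congrArg Subtype.val hk
    simpa [Prod.pow_mk, h2] using h1
  · rintro _ ⟨⟨x, y⟩, ⟨hxy, -⟩, rfl⟩ z hz
    have := Y.mul_mem (Y.mul_mem hxy hz) (Y.inv_mem hxy)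
    simpa only [_root_.MonoidHom.coe_fst, _root_.Prod.mk_mul_mk, _root_.mul_one, _root_.Prod.inv_mk, _root_.mul_inv_cancel] using this

/-- A normal subgroup `N` of a perfect group `S` with `S / N` a `p`-group is everything. -/
theorem eq_top_of_perfect_of_isPGroup {S : Type*} [Group S] [Finite S] [hS : Group.IsPerfect S]
    (N : Subgroup S) [N.Normal] (hN : ∀ x : S, ∃ k, x ^ (p ^ k) ∈ N) : N = ⊤ := by
  have h1 : IsPGroup p (S ⧸ N) := by
    intro x
    obtain ⟨y, rfl⟩ := QuotientGroup.mk_surjective x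
    obtain ⟨k, hk⟩ := hN y
    exact ⟨k, by rw [← QuotientGroup.mk_pow, QuotientGroup.eq_one_iff]; exact hk⟩
  have h2 : Group.IsNilpotent (S ⧸ N) := h1.isNilpotent
  have h3 : Group.IsSolvable (S ⧸ N) := inferInstance
  by_contra hne
  have h4 : Nontrivial (S ⧸ N) := by
    rw [← not_subsingleton_iff_nontrivial, QuotientGroup.subsingleton_iff]
    exact hne
  exact Group.IsPerfect.not_isSolvable (S ⧸ N) h3

/-- **Product principle.**  `Y ≤ A × B` is `PSub p` and contains a `p`-element `(a, b)` whose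
first component is non-trivial in a central quotient `Ā = f(A)` with cyclic Sylow `p`-subgroups
(at most one subgroup of order `p` in each).  Then `Y` contains every perfect subgroup of `A`
whose image is generated by elements of order `p`. -/
theorem PSub.prod_perfect {A' : Type*} [Group A'] [Finite A'] {Y : Subgroup (A × B)} (h : PSub p Y)
    {a : A} {b : B} (hab : (a, b) ∈ Y) (hpa : ∃ k, a ^ (p ^ k) = 1) (hpb : ∃ k, b ^ (p ^ k) = 1)
    (f : A →* A') (hf : Function.Surjective f) (hker : f.ker ≤ Subgroup.center A)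
    (hfa : f a ≠ 1)
    (huniq : ∀ P : Sylow p A', ∀ x ∈ P, ∀ y ∈ P, orderOf x = p → orderOf y = p →
      x ∈ Subgroup.zpowers y)
    {A₁ : Subgroup A} (hA₁ : Group.IsPerfect A₁)
    (hgen : A₁.map f ≤ Subgroup.closure {x | orderOf x = p}) {x : A} (hx : x ∈ A₁) :
    (x, (1 : B)) ∈ Y := by
  obtain ⟨Y₁, hY₁, haY, hpow, hconj⟩ := h.prod_aux hab hpb
  have h1 := hY₁.map hf
  have h2 : p ∣ Nat.card (Y₁.map f) := by
    obtain ⟨k, hk⟩ := hpa
    have h3 : f a ^ (p ^ k) = 1 := by rw [← map_pow, hk, map_one]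
    obtain ⟨m, -, hm⟩ := (Nat.dvd_prime_pow hp.out).mp (orderOf_dvd_of_pow_eq_one h3)
    have hm0 : m ≠ 0 := by
      rintro rfl
      rw [pow_zero, orderOf_eq_one_iff] at hm
      exact hfa hm
    have h4 : orderOf (f a) ∣ Nat.card (Y₁.map f) :=
      Subgroup.orderOf_dvd_natCard _ ⟨a, haY, rfl⟩
    exact (hm ▸ dvd_pow_self p hm0 : p ∣ orderOf (f a)).trans h4
  have h3 : Subgroup.closure {x : A' | orderOf x = p} ≤ Y₁.map f :=
    (Subgroup.closure_le _).mpr fun y hy => h1.mem_of_unique h2 huniq hy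
  -- `A₁ ≤ Y₁`
  have h4 : A₁ ≤ Y₁ := by
    have h5 : ∀ y ∈ A₁, ∃ y' ∈ Y₁, ∃ z ∈ Subgroup.center A, y = y' * z := by
      intro y hy
      obtain ⟨y', hy', hyy⟩ := h3 (hgen ⟨y, hy, rfl⟩)
      refine ⟨y', hy', y'⁻¹ * y, hker ?_, by group⟩
      rw [MonoidHom.mem_ker, map_mul, map_inv, hyy]; simp
    rw [← Subgroup.commutator_eq_self (H := A₁), Subgroup.commutator_le]
    intro y hy w hw
    obtain ⟨y', hy', z, hz, rfl⟩ := h5 y hy
    obtain ⟨w', hw', t, ht, rfl⟩ := h5 w hw
    have hz' := Subgroup.mem_center_iff.mp hz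
    have ht' := Subgroup.mem_center_iff.mp ht
    have : ⁅y' * z, w' * t⁆ = ⁅y', w'⁆ := by
      rw [commutatorElement_def, commutatorElement_def, mul_inv_rev, mul_inv_rev]
      have e1 : y' * z * (w' * t) * (z⁻¹ * y'⁻¹) * (t⁻¹ * w'⁻¹)
          = y' * (z * (w' * t)) * (z⁻¹ * y'⁻¹) * (t⁻¹ * w'⁻¹) := by group
      rw [e1, ← hz' (w' * t)]
      have e2 : y' * (w' * t * z) * (z⁻¹ * y'⁻¹) * (t⁻¹ * w'⁻¹)
          = y' * w' * (t * y'⁻¹) * (t⁻¹ * w'⁻¹) := by group
      rw [e2, ← ht' y'⁻¹]
      group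
    rw [this]
    exact Y₁.mul_mem (Y₁.mul_mem (Y₁.mul_mem hy' hw') (Y₁.inv_mem hy')) (Y₁.inv_mem hw')
  -- the subgroup `Y₀` of `A₁`
  let Y₀ : Subgroup A₁ :=
    { carrier := {y | ((y : A), (1 : B)) ∈ Y}
      one_mem' := Y.one_mem
      mul_mem' := fun {u v} hu hv => by
        have := Y.mul_mem hu hv
        simpa using this
      inv_mem' := fun {u} hu => by
        have := Y.inv_mem hu
        simpa using this }
  have hnorm : Y₀.Normal := by
    constructor
    intro n hn g
    exact hconj g (h4 g.2) n hn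
  have := eq_top_of_perfect_of_isPGroup (p := p) Y₀ (fun y => hpow y (h4 y.2))
  have h5 : (⟨x, hx⟩ : A₁) ∈ Y₀ := this ▸ Subgroup.mem_top _
  exact h5

end Product

section Frame

variable {p : ℕ} [hp : Fact p.Prime]

/-- Splitting off one factor of a product. -/
noncomputable def piSplit {ι : Type*} (A : ι → Type*) [∀ i, Group (A i)] (i : ι) :
    (∀ j, A j) ≃* A i × (∀ j : {j // j ≠ i}, A j) := by
  classical
  exact
  { toFun := fun f => (f i, fun j => f j)
    invFun := fun f j => if h : j = i then h ▸ f.1 else f.2 ⟨j, h⟩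
    left_inv := fun f => by
      funext j
      by_cases h : j = i
      · subst h; simp
      · simp [h]
    right_inv := fun f => by
      ext j
      · simp
      · simp [j.2]
    map_mul' := fun f g => rfl }

theorem piSplit_symm_mulSingle {ι : Type*} [DecidableEq ι] (A : ι → Type*) [∀ i, Group (A i)]
    (i : ι) (x : A i) : (piSplit A i).symm (x, 1) = Pi.mulSingle i x := by
  apply (piSplit A i).injective
  rw [MulEquiv.apply_symm_apply]
  ext j
  · simp only [piSplit, _root_.ne_eq, _root_.MulEquiv.coe_mk, _root_.Equiv.coe_fn_mk, _root_.Pi.mulSingle_eq_same]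
  · simp only [piSplit, Pi.mulSingle_eq_of_ne j.2, _root_.ne_eq, _root_.Pi.one_apply, _root_.MulEquiv.coe_mk, _root_.Equiv.coe_fn_mk, _root_.Pi.mulSingle_eq_same]

/-- Product principle for finite products. -/
theorem PSub.pi_perfect {ι : Type*} [Finite ι] [DecidableEq ι] {A : ι → Type*}
    [∀ i, Group (A i)] [∀ i, Finite (A i)] {A' : Type*} [Group A'] [Finite A']
    {Y : Subgroup (∀ i, A i)} (h : PSub p Y)
    {a : ∀ i, A i} (ha : a ∈ Y) (hpa : ∃ k, a ^ (p ^ k) = 1) (i : ι)
    (f : A i →* A') (hf : Function.Surjective f) (hker : f.ker ≤ Subgroup.center (A i))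
    (hfa : f (a i) ≠ 1)
    (huniq : ∀ P : Sylow p A', ∀ x ∈ P, ∀ y ∈ P, orderOf x = p → orderOf y = p →
      x ∈ Subgroup.zpowers y)
    {A₁ : Subgroup (A i)} (hA₁ : Group.IsPerfect A₁)
    (hgen : A₁.map f ≤ Subgroup.closure {x | orderOf x = p}) {x : A i} (hx : x ∈ A₁) :
    Pi.mulSingle i x ∈ Y := by
  have h1 := h.map_equiv (piSplit A i)
  obtain ⟨k, hk⟩ := hpa
  have h2 := h1.prod_perfect (a := a i) (b := fun j => a j) ⟨a, ha, rfl⟩
    ⟨k, congrFun hk i⟩ ⟨k, by funext j; exact congrFun hk j⟩ f hf hker hfa huniq hA₁ hgen hx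
  obtain ⟨y, hy, hyx⟩ := h2
  have h3 : y = Pi.mulSingle i x := by
    rw [← piSplit_symm_mulSingle, ← hyx]
    exact ((piSplit A i).symm_apply_apply y).symm
  rw [← h3]; exact hy

variable {G : Type u} [Group G] [Finite G]

/-- `N` is normal in a subgroup `M` of index prime to `p`: the condition passes to `H ∩ N` in `N`. -/
theorem PSub.inf_frame {H : Subgroup G} (h : PSub p H) {N M : Subgroup G} (hNM : N ≤ M)
    (hn : M ≤ Subgroup.normalizer N) (hM : ¬ p ∣ M.index) : PSub p ((H ⊓ N).subgroupOf N) := by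
  have hnorm : (N.subgroupOf M).Normal := by
    constructor
    intro a ha g
    rw [Subgroup.mem_subgroupOf] at ha ⊢
    have := (Subgroup.mem_normalizer_iff.mp (hn g.2) (a : G)).mp ha
    simpa only [_root_.Subgroup.coe_mul, _root_.InvMemClass.coe_inv] using this
  have h1 := (h.inf_of_not_dvd_index hM).inf_normal_subgroupOf (N := N.subgroupOf M)
  -- transport along `N.subgroupOf M ≃* N`
  have h2 := h1.map_equiv (Subgroup.subgroupOfEquivOfLe hNM)
  have h3 : (((H ⊓ M).subgroupOf M ⊓ N.subgroupOf M).subgroupOf (N.subgroupOf M)).map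
      (Subgroup.subgroupOfEquivOfLe hNM).toMonoidHom = (H ⊓ N).subgroupOf N := by
    ext x
    constructor
    · rintro ⟨y, ⟨⟨hy1, -⟩, -⟩, rfl⟩
      exact ⟨hy1, ((Subgroup.subgroupOfEquivOfLe hNM) y).2⟩
    · rintro ⟨hx, -⟩
      refine ⟨⟨⟨x, hNM x.2⟩, x.2⟩, ⟨⟨hx, hNM x.2⟩, x.2⟩, ?_⟩
      rfl
  rwa [h3] at h2

/-- Pull back along a homomorphism `φ : K → G` whose range is normal in a subgroup `M` of index
prime to `p`. -/
theorem PSub.comap_frame {K : Type v} [Group K] [Finite K] {H : Subgroup G} (h : PSub p H)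
    (φ : K →* G) {M : Subgroup G} (hNM : φ.range ≤ M)
    (hn : M ≤ Subgroup.normalizer φ.range) (hM : ¬ p ∣ M.index) : PSub p (H.comap φ) := by
  have h1 := h.inf_frame hNM hn hM
  have h2 := h1.comap (f := φ.rangeRestrict) φ.rangeRestrict_surjective
  have h3 : ((H ⊓ φ.range).subgroupOf φ.range).comap φ.rangeRestrict = H.comap φ := by
    ext x
    constructor
    · rintro ⟨hx, -⟩; exact hx
    · intro hx; exact ⟨hx, ⟨x, rfl⟩⟩
  rwa [h3] at h2

end Frame

end Cfsg.Agent.H146.KW

private theorem dce_dff33456d5f3 : _root_.True := by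
  try have : _root_.True := by simp only [_root_.IsPGroup.toSylow.congr_simp]
  try have : _root_.True := by simp only [_root_.Cfsg.Agent.H146.KW.piSplit.eq_1]
  exact _root_.True.intro
end

-- part: H146/KW/Reduction
section
set_option linter.all false
open scoped Cfsg.Agent.FastGrp

/-!
# Reduction of S4243 to nonabelian simple `H < G`, `G` simple
-/

set_option autoImplicit false
set_option linter.unusedSectionVars false

open Subgroup

namespace Cfsg.Agent.H146.KW

universe u

/-- All subgroups of a finite `p`-group are subnormal. -/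
theorem isSubnormal_of_isPGroup {p : ℕ} [hp : Fact p.Prime] :
    ∀ (n : ℕ) (G : Type u) [Group G] [Finite G], Nat.card G = n → IsPGroup p G →
      ∀ H : Subgroup G, H.IsSubnormal := by
  intro n
  induction n using Nat.strong_induction_on with
  | _ n ih =>
    intro G _ _ hn hG H
    rcases eq_top_or_exists_le_coatom H with h | ⟨M, hM, hHM⟩
    · rw [h]; exact Subgroup.IsSubnormal.top
    · have h1 : Group.IsNilpotent G := hG.isNilpotent
      have h2 : M.Normal :=
        NormalizerCondition.normal_of_coatom M Group.normalizerCondition_of_isNilpotent hM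
      have h3 : Nat.card M < n := by
        rw [← hn]
        exact lt_of_le_of_ne (Subgroup.card_le_card_group M)
          (fun h => hM.1 ((Subgroup.card_eq_iff_eq_top M).mp h))
      have h4 := ih _ h3 M rfl (hG.to_subgroup M) (H.subgroupOf M)
      exact h4.trans hHM h2.isSubnormal

/-- The intersection of all Sylow `p`-subgroups. -/
def core (p : ℕ) (X : Type u) [Group X] : Subgroup X := ⨅ P : Sylow p X, (P : Subgroup X)

section Core

variable {p : ℕ} [hp : Fact p.Prime] {X : Type u} [Group X] [Finite X]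

theorem mem_core {x : X} : x ∈ core p X ↔ ∀ P : Sylow p X, x ∈ P := by
  simp only [core, Subgroup.mem_iInf]
  rfl

instance core_characteristic : (core p X).Characteristic := by
  rw [Subgroup.characteristic_iff_comap_le]
  intro φ x hx
  rw [Subgroup.mem_comap, mem_core] at hx
  rw [mem_core]
  intro P
  -- `P.map φ` is a Sylow subgroup
  have h1 := hx (P.mapSurjective (f := φ.toMonoidHom) φ.surjective)
  obtain ⟨y, hy, hyx⟩ : φ x ∈ (P : Subgroup X).map φ.toMonoidHom := by
    have : φ x ∈ (P.mapSurjective (f := φ.toMonoidHom) φ.surjective : Sylow p X) := h1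
    rw [← Sylow.coe_mapSurjective]; exact this
  have : y = x := φ.injective hyx
  rw [← this]; exact hy

theorem isPGroup_core : IsPGroup p (core p X) := by
  obtain ⟨P⟩ : Nonempty (Sylow p X) := inferInstance
  exact P.isPGroup'.to_le (iInf_le _ P)

theorem le_core {D : Subgroup X} (hD : D.Normal) (h : IsPGroup p D) : D ≤ core p X := by
  rw [core, le_iInf_iff]
  intro P
  exact h.le_sylow_of_normal P

end Core

/-- All primes. -/
def PSubAll {G : Type u} [Group G] (H : Subgroup G) : Prop :=
  ∀ (p : ℕ) [Fact p.Prime], PSub p H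

section Step

variable {G : Type u} [Group G] [Finite G]

theorem PSubAll.subgroupOf {H M : Subgroup G} (h : PSubAll H) (hM : H ≤ M) :
    PSubAll (H.subgroupOf M) := fun p _ => (h p).subgroupOf hM

theorem PSubAll.of_normal {H N : Subgroup G} (h : PSubAll H) (hN : N ≤ H)
    (hn : (N.subgroupOf H).Normal) : PSubAll N := fun p _ => (h p).of_normal hN hn

theorem PSubAll.inf_normal_subgroupOf {H N : Subgroup G} [N.Normal] (h : PSubAll H) :
    PSubAll ((H ⊓ N).subgroupOf N) := fun p _ => (h p).inf_normal_subgroupOf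

theorem PSubAll.map {G' : Type u} [Group G'] [Finite G'] {H : Subgroup G} (h : PSubAll H)
    {f : G →* G'} (hf : Function.Surjective f) : PSubAll (H.map f) := fun p _ => (h p).map hf

theorem card_lt_of_ne_top {M : Subgroup G} (h : M ≠ ⊤) : Nat.card M < Nat.card G :=
  lt_of_le_of_ne (Subgroup.card_le_card_group M) (fun e => h ((Subgroup.card_eq_iff_eq_top M).mp e))

theorem card_quotient_lt {N : Subgroup G} (h : N ≠ ⊥) : Nat.card (G ⧸ N) < Nat.card G := by
  rw [Subgroup.card_eq_card_quotient_mul_card_subgroup N]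
  have h1 : 1 < Nat.card N := by
    rw [Subgroup.one_lt_card_iff_ne_bot]; exact h
  have h2 : 0 < Nat.card (G ⧸ N) := Nat.card_pos
  nlinarith

/-- If a subgroup contains all Sylow `q`-subgroups of `H` for all primes `q`, it contains `H`. -/
theorem le_of_forall_sylow {H C : Subgroup G}
    (h : ∀ (p : ℕ) [Fact p.Prime], ∃ P : Sylow p G, ¬ p ∣ (P : Subgroup G).relIndex H ∧
      H ⊓ (P : Subgroup G) ≤ C) : H ≤ C := by
  rw [← Subgroup.relIndex_eq_one]
  by_contra hne
  obtain ⟨p, hp, hd⟩ := Nat.exists_prime_and_dvd hne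
  have : Fact p.Prime := ⟨hp⟩
  obtain ⟨P, hP, hPC⟩ := h p
  apply hP
  have e1 : (H ⊓ (P : Subgroup G)).relIndex H = (P : Subgroup G).relIndex H :=
    Subgroup.inf_relIndex_left _ _
  rw [← e1]
  exact hd.trans (Subgroup.relIndex_dvd_of_le_left H hPC)

/-- Non-simple step of the reduction. -/
theorem step_nonsimple {H : Subgroup G} (h : PSubAll H)
    (ih : ∀ (G' : Type u) [Group G'] [Finite G'], Nat.card G' < Nat.card G →
      ∀ H' : Subgroup G', PSubAll H' → H'.IsSubnormal)
    {N : Subgroup G} (hNn : N.Normal) (hN1 : N ≠ ⊥) (hN2 : N ≠ ⊤)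
    (hmin : ∀ K : Subgroup G, K.Normal → K ≤ N → K = ⊥ ∨ K = N) : H.IsSubnormal := by
  -- (i) `H ⊔ N = ⊤`
  by_cases hHN : H ⊔ N = ⊤
  swap
  · have h1 := ih (G ⧸ N) (card_quotient_lt hN1) (H.map (QuotientGroup.mk' N))
      (h.map (QuotientGroup.mk'_surjective N))
    have h2 := h1.comap (QuotientGroup.mk' N)
    rw [Subgroup.comap_map_eq, QuotientGroup.ker_mk'] at h2
    have h3 := ih (H ⊔ N : Subgroup G) (card_lt_of_ne_top hHN) (H.subgroupOf (H ⊔ N))
      (h.subgroupOf le_sup_left)
    exact h3.trans le_sup_left h2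
  -- (ii) `H ⊓ N = ⊥`
  by_cases hle : N ≤ H
  · rw [sup_eq_left.mpr hle] at hHN
    rw [hHN]; exact Subgroup.IsSubnormal.top
  have hmemHN : ∀ g : G, ∃ n ∈ N, ∃ x ∈ H, g = n * x := by
    intro g
    have : g ∈ N ⊔ H := by rw [sup_comm, hHN]; exact Subgroup.mem_top g
    obtain ⟨n, hn, x, hx, rfl⟩ := Subgroup.mem_sup_of_normal_left.mp this
    exact ⟨n, hn, x, hx, rfl⟩
  have hK : H ⊓ N = ⊥ := by
    have h1 := ih N (card_lt_of_ne_top hN2) ((H ⊓ N).subgroupOf N) h.inf_normal_subgroupOf
    rcases h1.lt_normal with h2 | ⟨N₁, hN₁, hKN, hlt⟩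
    · exfalso
      apply hle
      intro x hx
      have : (⟨x, hx⟩ : N) ∈ (H ⊓ N).subgroupOf N := h2 ▸ Subgroup.mem_top _
      exact this.1
    · have hC : Subgroup.normalClosure ((H ⊓ N : Subgroup G) : Set G) ≤ N₁.map N.subtype := by
        rw [Subgroup.normalClosure, Subgroup.closure_le]
        intro y hy
        rw [Group.mem_conjugatesOfSet_iff] at hy
        obtain ⟨z, hz, hzy⟩ := hy
        obtain ⟨g, rfl⟩ := isConj_iff.mp hzy
        obtain ⟨n, hn, x, hx, rfl⟩ := hmemHN g
        have hz' : x * z * x⁻¹ ∈ H ⊓ N :=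
          ⟨H.mul_mem (H.mul_mem hx hz.1) (H.inv_mem hx), hNn.conj_mem z hz.2 x⟩
        have h3 : (⟨x * z * x⁻¹, hz'.2⟩ : N) ∈ N₁ := hKN hz'
        have h4 := hN₁.conj_mem _ h3 ⟨n, hn⟩
        exact ⟨_, h4, by simp [mul_assoc]⟩
      rcases hmin _ Subgroup.normalClosure_normal (hC.trans (Subgroup.map_subtype_le N₁)) with h5 | h5
      · exact (eq_bot_iff.mpr (h5 ▸ Subgroup.subset_normalClosure))
      · exfalso
        rw [h5] at hC
        apply hlt.ne
        rw [eq_top_iff]
        intro x _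
        obtain ⟨y, hy, hyx⟩ := hC x.2
        have : y = x := Subtype.ext hyx
        exact this ▸ hy
  -- (iii)
  by_cases hNp : ∃ p : ℕ, p.Prime ∧ IsPGroup p N
  · obtain ⟨p, hp, hNp⟩ := hNp
    have : Fact p.Prime := ⟨hp⟩
    -- every Sylow `q`-subgroup, `q ≠ p`, is in `H`
    have hind : H.index = Nat.card N := by
      have h1 : Nat.card H * Nat.card N = Nat.card G := by
        have h2 := Subgroup.relIndex_mul_index (le_sup_right : N ≤ H ⊔ N)
        rw [Subgroup.relIndex_sup_right, hHN, Subgroup.index_top, mul_one] at h2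
        have h3 := Subgroup.card_mul_index N
        rw [← h3, ← h2, mul_comm]
        congr 1
        rw [← Subgroup.inf_relIndex_left, hK, Subgroup.relIndex_bot_left]
      have h2 := Subgroup.card_mul_index H
      rw [← h2] at h1
      exact (Nat.eq_of_mul_eq_mul_left Nat.card_pos h1).symm
    have hsyl : ∀ (q : ℕ) [Fact q.Prime], q ≠ p → ∀ P : Sylow q G, (P : Subgroup G) ≤ H := by
      intro q hq hqp P
      obtain ⟨k, hk⟩ := IsPGroup.iff_card.mp hNp
      have h1 : H.relIndex P ∣ H.index * (Nat.card (P : Subgroup G)) := by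
        exact dvd_mul_of_dvd_right (Subgroup.index_dvd_card _) _
      -- compare orders
      have hcard : Nat.card (P : Subgroup G) ≤ Nat.card (H ⊓ P : Subgroup G) := by
        rw [(h q).card_inf P, P.card_eq_multiplicity]
        apply Nat.pow_le_pow_right hq.out.pos
        rw [← Subgroup.card_mul_index H, Nat.factorization_mul Nat.card_pos.ne'
          Subgroup.index_ne_zero_of_finite, Finsupp.add_apply, hind, hk,
          Nat.Prime.factorization_pow hp]
        simp [hqp.symm]
      have h3 : H ⊓ (P : Subgroup G) = P := Subgroup.eq_of_le_of_card_ge inf_le_right hcard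
      exact inf_eq_right.mp h3
    set O : Subgroup G := Subgroup.closure {x : G | ∃ q : ℕ, q.Prime ∧ q ≠ p ∧ ∃ k, orderOf x = q ^ k}
      with hO
    have hOH : O ≤ H := by
      rw [hO, Subgroup.closure_le]
      rintro x ⟨q, hq, hqp, k, hk⟩
      have : Fact q.Prime := ⟨hq⟩
      have hx : IsPGroup q (Subgroup.zpowers x) := IsPGroup.of_card (by rw [Nat.card_zpowers, hk])
      obtain ⟨P, hP⟩ := hx.exists_le_sylow
      exact hsyl q hqp P (hP (Subgroup.mem_zpowers x))
    have hOn : O.Normal := by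
      rw [hO, ← Subgroup.normalizer_eq_top_iff, eq_top_iff]
      intro g _
      have hconj : ∀ g : G, ∀ y ∈ O, g * y * g⁻¹ ∈ O := by
        intro g y hy
        induction hy using Subgroup.closure_induction with
        | mem x hx =>
          obtain ⟨q, hq, hqp, k, hk⟩ := hx
          refine Subgroup.subset_closure ⟨q, hq, hqp, k, ?_⟩
          rw [← hk]
          exact (SemiconjBy.orderOf_eq g (by rw [SemiconjBy]; group)).symm
        | one => simp
        | mul x y _ _ hx hy =>
          have e : g * (x * y) * g⁻¹ = (g * x * g⁻¹) * (g * y * g⁻¹) := by group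
          rw [e]; exact O.mul_mem hx hy
        | inv x _ hx =>
          have e : g * x⁻¹ * g⁻¹ = (g * x * g⁻¹)⁻¹ := by group
          rw [e]; exact O.inv_mem hx
      rw [Subgroup.mem_normalizer_iff]
      intro y
      constructor
      · exact hconj g y
      · intro hy
        have := hconj g⁻¹ _ hy
        simpa [mul_assoc] using this
    by_cases hO1 : O = ⊥
    · -- `G` is a `p`-group
      have hG : IsPGroup p G := by
        rw [IsPGroup.iff_card]
        refine ⟨_, Nat.eq_prime_pow_of_unique_prime_dvd Nat.card_pos.ne' ?_⟩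
        intro q hq hqd
        by_contra hqp
        have : Fact q.Prime := ⟨hq⟩
        obtain ⟨x, hx⟩ := exists_prime_orderOf_dvd_card' (G := G) q hqd
        have h1 : x ∈ O := Subgroup.subset_closure ⟨q, hq, hqp, 1, by rw [hx, pow_one]⟩
        rw [hO1, Subgroup.mem_bot] at h1
        rw [h1, orderOf_one] at hx
        exact hq.one_lt.ne hx
      exact isSubnormal_of_isPGroup _ G rfl hG H
    · have h1 := ih (G ⧸ O) (card_quotient_lt hO1) (H.map (QuotientGroup.mk' O))
        (h.map (QuotientGroup.mk'_surjective O))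
      have h2 := h1.comap (QuotientGroup.mk' O)
      rwa [Subgroup.comap_map_eq, QuotientGroup.ker_mk', sup_eq_left.mpr hOH] at h2
  · -- `N` is no `p`-group
    push Not at hNp
    have hcore : ∀ (p : ℕ) [Fact p.Prime], core p N = ⊥ := by
      intro p hp
      have h1 : ((core p N).map N.subtype).Normal :=
        ConjAct.normal_of_characteristic_of_normal
      rcases hmin _ h1 (Subgroup.map_subtype_le _) with h2 | h2
      · rwa [Subgroup.map_eq_bot_iff_of_injective _ N.subtype_injective] at h2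
      · exfalso
        apply hNp p hp.out
        rw [← h2]
        exact isPGroup_core.map _
    have hcent : H ≤ Subgroup.centralizer (N : Set G) := by
      apply le_of_forall_sylow
      intro p hp
      obtain ⟨P⟩ : Nonempty (Sylow p G) := inferInstance
      refine ⟨P, h p P, ?_⟩
      set L : Subgroup G := (P : Subgroup G) ⊔ N with hL
      have hLi : ¬ p ∣ L.index := fun hd =>
        P.not_dvd_index (hd.trans (Subgroup.index_dvd_of_le le_sup_left))
      have hR := (h p).inf_of_not_dvd_index hLi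
      -- `H ∩ L` is a `p`-group
      have hRp : IsPGroup p ((H ⊓ L).subgroupOf L) := by
        intro x
        have hxL : ((x : L) : G) ∈ N ⊔ (P : Subgroup G) := by
          rw [sup_comm]; exact (x : L).2
        obtain ⟨n, hn, y, hy, hny⟩ := Subgroup.mem_sup_of_normal_left.mp hxL
        obtain ⟨k, hk⟩ := P.isPGroup' ⟨y, hy⟩
        have hk' : y ^ p ^ k = 1 := by simpa using congrArg Subtype.val hk
        refine ⟨k, ?_⟩
        have hxN : ((x : L) : G) ^ p ^ k ∈ N := by
          rw [← QuotientGroup.eq_one_iff, QuotientGroup.mk_pow, ← hny, QuotientGroup.mk_mul,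
            (QuotientGroup.eq_one_iff n).mpr hn, one_mul, ← QuotientGroup.mk_pow, hk',
            QuotientGroup.mk_one]
        have hxH : ((x : L) : G) ^ p ^ k ∈ H := H.pow_mem (x.2).1 _
        have h1 : ((x : L) : G) ^ p ^ k ∈ H ⊓ N := ⟨hxH, hxN⟩
        rw [hK, Subgroup.mem_bot] at h1
        apply Subtype.ext
        apply Subtype.ext
        simpa using h1
      -- so it is contained in the core of `L`
      have hRcore : (H ⊓ L).subgroupOf L ≤ core p L := by
        rw [core, le_iInf_iff]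
        intro P'
        have h1 := hR P'
        obtain ⟨m, hm⟩ := IsPGroup.iff_card.mp hRp
        have h2 : (P' : Subgroup L).relIndex ((H ⊓ L).subgroupOf L) ∣ p ^ m := by
          rw [← hm]; exact Subgroup.index_dvd_card _
        obtain ⟨j, -, hj⟩ := (Nat.dvd_prime_pow hp.out).mp h2
        have hj0 : j = 0 := by
          by_contra hne
          exact h1 (hj ▸ dvd_pow_self p hne)
        rw [hj0, pow_zero, Subgroup.relIndex_eq_one] at hj
        exact hj
      intro x hx
      rw [Subgroup.mem_centralizer_iff]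
      intro n hn
      have hxL : x ∈ L := (le_sup_left : (P : Subgroup G) ≤ L) hx.2
      have hnL : n ∈ L := (le_sup_right : N ≤ L) hn
      have hxc : (⟨x, hxL⟩ : L) ∈ core p L := hRcore ⟨hx.1, hxL⟩
      have hcn : (core p L).Normal := inferInstance
      -- the normal `p`-subgroup of `N`
      set D : Subgroup N := ((core p L).map L.subtype).subgroupOf N with hD
      have hDn : D.Normal := by
        constructor
        rintro a ⟨b, hb, hba⟩ g
        refine ⟨(⟨g, (le_sup_right : N ≤ L) g.2⟩ * b * ⟨g, (le_sup_right : N ≤ L) g.2⟩⁻¹ :),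
          hcn.conj_mem b hb _, ?_⟩
        have hba' : (b : G) = a := hba
        simp [hba']
      have hDp : IsPGroup p D := (isPGroup_core.map L.subtype).comap_subtype
      have hD1 : D ≤ ⊥ := by
        rw [← hcore p]
        exact le_core hDn hDp
      have hw : n * x * n⁻¹ * x⁻¹ ∈ N := by
        have e : n * x * n⁻¹ * x⁻¹ = n * (x * n⁻¹ * x⁻¹) := by group
        rw [e]; exact N.mul_mem hn (hNn.conj_mem _ (N.inv_mem hn) x)
      have hw2 : (⟨_, hw⟩ : N) ∈ D := by
        refine ⟨@HMul.hMul _ _ _ instHMul (@HMul.hMul _ _ _ instHMul (@HMul.hMul _ _ _ instHMul ⟨n, hnL⟩ ⟨x, hxL⟩) ⟨n, hnL⟩⁻¹) ⟨x, hxL⟩⁻¹,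
          (core p L).mul_mem (hcn.conj_mem _ hxc _) ((core p L).inv_mem hxc), ?_⟩
        simp
      have hw3 := hD1 hw2
      rw [Subgroup.mem_bot] at hw3
      have hw4 : n * x * n⁻¹ * x⁻¹ = 1 := congrArg Subtype.val hw3
      calc n * x = (n * x * n⁻¹ * x⁻¹) * (x * n) := by group
        _ = x * n := by rw [hw4, one_mul]
    have h1 : H.Normal := by
      rw [← Subgroup.normalizer_eq_top_iff, eq_top_iff, ← hHN]
      refine sup_le Subgroup.le_normalizer ?_
      intro n hn
      rw [Subgroup.mem_normalizer_iff]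
      have hc : ∀ y ∈ H, n * y = y * n := fun y hy => (Subgroup.mem_centralizer_iff.mp (hcent hy)) n hn
      intro y
      constructor
      · intro hy
        rw [hc y hy]; simpa using hy
      · intro hy
        have := hc _ hy
        have e : y = n⁻¹ * (n * y * n⁻¹) * n := by group
        rw [e, mul_assoc, ← this]
        simpa using hy
    exact h1.isSubnormal

end Step

/-- The remaining case: `G` simple, `H` a proper non-abelian simple subgroup with the Sylow
condition for all primes, subnormal in every proper overgroup. -/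
def SimpleCase : Prop :=
  ∀ (G : Type u) [Group G] [Finite G] [IsSimpleGroup G] (H : Subgroup G), IsSimpleGroup H →
    ¬ IsMulCommutative H → ¬ IsMulCommutative G → H ≠ ⊤ → PSubAll H →
    (∀ M : Subgroup G, H ≤ M → M ≠ ⊤ → (H.subgroupOf M).IsSubnormal) → False

/-- **Reduction**: the Sylow condition implies subnormality, given the simple case. -/
theorem isSubnormal_of_simpleCase (hS : SimpleCase.{u}) :
    ∀ (n : ℕ) (G : Type u) [Group G] [Finite G], Nat.card G = n →
      ∀ H : Subgroup G, PSubAll H → H.IsSubnormal := by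
  intro n
  induction n using Nat.strong_induction_on with
  | _ n ih =>
    intro G _ _ hn H hH
    have ih' : ∀ (G' : Type u) [Group G'] [Finite G'], Nat.card G' < Nat.card G →
        ∀ H' : Subgroup G', PSubAll H' → H'.IsSubnormal := by
      intro G' _ _ hlt H' hH'
      exact ih _ (hn ▸ hlt) G' rfl H' hH'
    by_cases hne : Nontrivial G
    swap
    · rw [not_nontrivial_iff_subsingleton] at hne
      have : H = ⊤ := Subsingleton.elim _ _
      rw [this]; exact Subgroup.IsSubnormal.top
    by_cases hG : IsSimpleGroup G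
    · -- simple
      by_contra hcon
      have hex : ∃ m, ∃ K : Subgroup G, Nat.card K = m ∧ PSubAll K ∧ K ≠ ⊥ ∧ K ≠ ⊤ := by
        refine ⟨_, H, rfl, hH, ?_, ?_⟩
        · rintro rfl; exact hcon Subgroup.IsSubnormal.bot
        · rintro rfl; exact hcon Subgroup.IsSubnormal.top
      classical
      obtain ⟨K, hKc, hK, hK1, hK2⟩ := Nat.find_spec hex
      have hmin : ∀ K' : Subgroup G, PSubAll K' → K' ≠ ⊥ → K' ≠ ⊤ → Nat.card K ≤ Nat.card K' := by
        intro K' h1 h2 h3
        rw [hKc]
        exact Nat.find_min' hex ⟨K', rfl, h1, h2, h3⟩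
      have hKs : IsSimpleGroup K := by
        have hnt : Nontrivial K := (Subgroup.nontrivial_iff_ne_bot K).mpr hK1
        refine ⟨fun N hN => ?_⟩
        by_contra hcon
        push Not at hcon
        have hle : N.map K.subtype ≤ K := Subgroup.map_subtype_le N
        have h1 : PSubAll (N.map K.subtype) := by
          apply hK.of_normal hle
          have e : (N.map K.subtype).subgroupOf K = N := by
            ext x
            constructor
            · rintro ⟨y, hy, hyx⟩
              have : y = x := Subtype.ext hyx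
              exact this ▸ hy
            · intro hx; exact ⟨x, hx, rfl⟩
          rw [e]; exact hN
        have h2 := hmin _ h1 ?_ ?_
        · have h3 : N = ⊤ := by
            rw [← Subgroup.card_eq_iff_eq_top]
            apply le_antisymm (Subgroup.card_le_card_group N)
            rwa [← Nat.card_congr (N.equivMapOfInjective K.subtype K.subtype_injective).toEquiv] at h2
          exact hcon.2 h3
        · intro h; exact hcon.1 ((Subgroup.map_eq_bot_iff_of_injective _ K.subtype_injective).mp h)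
        · intro h
          apply hK2
          rw [eq_top_iff, ← h]; exact hle
      have hcore : ∀ (p : ℕ) [Fact p.Prime], ¬ IsPGroup p K := by
        intro p hp hKp
        have h1 : K ≤ core p G := by
          rw [core, le_iInf_iff]
          intro P
          obtain ⟨m, hm⟩ := IsPGroup.iff_card.mp hKp
          have h2 : (P : Subgroup G).relIndex K ∣ p ^ m := by
            rw [← hm]; exact Subgroup.index_dvd_card _
          obtain ⟨j, -, hj⟩ := (Nat.dvd_prime_pow hp.out).mp h2
          have hj0 : j = 0 := by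
            by_contra hne
            exact hK p P (hj ▸ dvd_pow_self p hne)
          rw [hj0, pow_zero, Subgroup.relIndex_eq_one] at hj
          exact hj
        have h2 : (core p G).Normal := inferInstance
        rcases h2.eq_bot_or_eq_top with h3 | h3
        · rw [h3, le_bot_iff] at h1; exact hK1 h1
        · have h4 : IsPGroup p G := by
            have := isPGroup_core (p := p) (X := G)
            rw [h3] at this
            exact this.of_equiv Subgroup.topEquiv
          rcases (isSubnormal_of_isPGroup _ G rfl h4 K).eq_bot_or_top_of_isSimpleGroup hG with h | h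
          · exact hK1 h
          · exact hK2 h
      have hKc' : ¬ IsMulCommutative K := by
        intro hcomm
        have hnt : Nontrivial K := (Subgroup.nontrivial_iff_ne_bot K).mpr hK1
        have hc1 : Nat.card K ≠ 1 := by
          rw [← Finite.one_lt_card_iff_nontrivial] at hnt
          exact hnt.ne'
        obtain ⟨p, hp, hd⟩ := Nat.exists_prime_and_dvd hc1
        have : Fact p.Prime := ⟨hp⟩
        obtain ⟨x, hx⟩ := exists_prime_orderOf_dvd_card' (G := K) p hd
        have hn : (Subgroup.zpowers x).Normal := by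
          constructor
          intro y hy g
          have : g * y * g⁻¹ = y := by rw [hcomm.is_comm.comm g y]; group
          rw [this]; exact hy
        have htop : Subgroup.zpowers x = ⊤ := by
          rcases hKs.eq_bot_or_eq_top_of_normal _ hn with h | h
          · exfalso
            rw [Subgroup.zpowers_eq_bot] at h
            rw [h, orderOf_one] at hx
            exact hp.one_lt.ne hx
          · exact h
        apply hcore p
        apply IsPGroup.of_card (n := 1)
        rw [pow_one, ← hx, ← Nat.card_zpowers, htop, Subgroup.card_top]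
      refine hS G K hKs hKc' (fun hc => hKc' ?_) hK2 hK fun M hKM hM =>
        ih' M (card_lt_of_ne_top hM) _ (hK.subgroupOf hKM)
      exact ⟨⟨fun a b => Subtype.ext (hc.is_comm.comm _ _)⟩⟩
    · -- not simple
      have hex : ∃ m, ∃ K : Subgroup G, Nat.card K = m ∧ K.Normal ∧ K ≠ ⊥ ∧ K ≠ ⊤ := by
        by_contra hcon
        push Not at hcon
        apply hG
        exact ⟨fun K hK => by
          by_contra hne2
          push Not at hne2
          exact hcon _ K rfl hK hne2.1 |> hne2.2⟩
      classical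
      obtain ⟨N, hNc, hN, hN1, hN2⟩ := Nat.find_spec hex
      refine step_nonsimple hH ih' hN hN1 hN2 ?_
      intro K hK hKN
      by_contra hcon
      push Not at hcon
      have h1 : K ≠ ⊤ := fun h => hN2 (top_le_iff.mp (h ▸ hKN))
      have h2 := Nat.find_min' hex ⟨K, rfl, hK, hcon.1, h1⟩
      rw [← hNc] at h2
      exact hcon.2 (Subgroup.eq_of_le_of_card_ge hKN h2)

/-- The easy direction of S4243. -/
theorem relIndex_dvd_of_isSubnormal {G : Type u} [Group G] [Finite G] {H : Subgroup G}
    (h : H.IsSubnormal) (K : Subgroup G) : (H ⊓ K).relIndex K ∣ H.index := by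
  rw [Subgroup.inf_relIndex_right]
  induction h with
  | top => simp
  | step H M hle hM hN ih =>
    rw [← Subgroup.relIndex_mul_index hle]
    have h1 := Subgroup.relIndex_inf_mul_relIndex H M K
    rw [inf_eq_left.mpr hle] at h1
    rw [← h1]
    refine mul_dvd_mul ?_ ih
    -- `|M ∩ K : H ∩ K|` divides `|M : H|`
    have h2 := Subgroup.relIndex_dvd_index_of_normal (H.subgroupOf M) ((M ⊓ K).subgroupOf M)
    rwa [relIndex_subgroupOf_subgroupOf inf_le_left] at h2

/-- S4243 from the simple case. -/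
theorem statement_of_simpleCase (hS : SimpleCase.{u}) {G : Type u} [Group G] [Finite G]
    (H : Subgroup G) :
    H.IsSubnormal ↔ ∀ K : Subgroup G, (H ⊓ K).relIndex K ∣ H.index :=
  ⟨fun h K => relIndex_dvd_of_isSubnormal h K,
    fun h => isSubnormal_of_simpleCase hS _ G rfl H fun _ _ => psub_of_hyp h⟩

end Cfsg.Agent.H146.KW

private theorem dce_85b6db0416b6 : _root_.True := by
  try have : _root_.True := by simp only [_root_.Cfsg.Agent.H146.KW.core.eq_1]
  exact _root_.True.intro
end

-- part: H146/KW/Iface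
section
set_option linter.all false
open scoped Cfsg.Agent.FastGrp

/-!
# Interface for the rows of S4243

`NoKW G`: the (simple) group `G` has no proper nonabelian simple subgroup `H` with the Sylow
condition for all primes which is subnormal in every proper overgroup.
-/

set_option autoImplicit false
set_option linter.unusedSectionVars false

open Subgroup

namespace Cfsg.Agent.H146.KW

universe u v

/-- The row statement: no Kegel-Wielandt subgroup. -/
def NoKW (G : Type u) [Group G] : Prop :=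
  ∀ H : Subgroup G, IsSimpleGroup H → ¬ IsMulCommutative H → H ≠ ⊤ → PSubAll H →
    (∀ M : Subgroup G, H ≤ M → M ≠ ⊤ → (H.subgroupOf M).IsSubnormal) → False

/-- Transport along isomorphisms. -/
theorem NoKW.of_equiv {G : Type u} {G' : Type v} [Group G] [Finite G] [Group G'] [Finite G']
    (e : G ≃* G') (h : NoKW G') : NoKW G := by
  intro H hs hc ht hK hM
  have eH : H ≃* H.map e.toMonoidHom := H.equivMapOfInjective e.toMonoidHom e.injective
  refine h (H.map e.toMonoidHom) ?_ ?_ ?_ ?_ ?_
  · exact (MulEquiv.isSimpleGroup_congr eH).mp hs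
  · intro hc'
    apply hc
    exact ⟨⟨fun a b => eH.injective (by rw [map_mul, map_mul]; exact hc'.is_comm.comm _ _)⟩⟩
  · intro h1
    apply ht
    rw [eq_top_iff]
    intro x _
    obtain ⟨y, hy, hyx⟩ : e x ∈ H.map e.toMonoidHom := h1 ▸ Subgroup.mem_top _
    exact e.injective hyx ▸ hy
  · intro p hp
    exact (hK p).map_equiv e
  · intro M hHM hMt
    have h1 := hM (M.comap e.toMonoidHom) (Subgroup.map_le_iff_le_comap.mp hHM) ?_
    · -- transport of subnormality
      let f : M.comap e.toMonoidHom →* M :=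
        (e.toMonoidHom.comp (M.comap e.toMonoidHom).subtype).codRestrict M (fun x => x.2)
      have hf : Function.Surjective f := by
        intro y
        refine ⟨⟨e.symm y, ?_⟩, ?_⟩
        · change e (e.symm y) ∈ M
          rw [e.apply_symm_apply]; exact y.2
        · apply Subtype.ext
          exact e.apply_symm_apply _
      have h2 := h1.map hf
      have h3 : (H.subgroupOf (M.comap e.toMonoidHom)).map f =
          (H.map e.toMonoidHom).subgroupOf M := by
        ext y
        constructor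
        · rintro ⟨x, hx, rfl⟩
          exact ⟨x, hx, rfl⟩
        · rintro ⟨x, hx, hxy⟩
          have hxM : x ∈ M.comap e.toMonoidHom := by
            change e x ∈ M
            have : e x = y := hxy
            rw [this]; exact y.2
          exact ⟨⟨x, hxM⟩, hx, Subtype.ext hxy⟩
      rw [h3] at h2
      exact h2
    · intro h1
      apply hMt
      rw [eq_top_iff]
      intro y _
      have : e.symm y ∈ M.comap e.toMonoidHom := h1 ▸ Subgroup.mem_top _
      have h2 : e (e.symm y) ∈ M := this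
      rwa [e.apply_symm_apply] at h2

/-- Assembly: the classification plus all rows give the simple case. -/
theorem simpleCase_of_rows
    (hcl : ∀ (G : Type u) [Group G] [Finite G] [IsSimpleGroup G], Cfsg.IsKnownSimple' G)
    (hrows : ∀ (G : Type u) [Group G] [Finite G] [IsSimpleGroup G], ¬ IsMulCommutative G →
      Cfsg.IsKnownSimple' G → NoKW G) : SimpleCase.{u} := by
  intro G _ _ _ H hs hc hcG ht hK hM
  exact hrows G hcG (hcl G) H hs hc ht hK hM

end Cfsg.Agent.H146.KW
end
end
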